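import Groth.Agent.L24.Retract.Alg
import Groth.Agent.L23.AffineMor
import Mathlib.AlgebraicGeometry.AlgClosed.Basic
import Groth.Prelude.Def_Red
import Groth.Prelude.Def_TwC
import Mathlib.RingTheory.TensorProduct.MonoidAlgebra
import Mathlib.Algebra.MonoidAlgebra.NoZeroDivisors
import Mathlib.AlgebraicGeometry.Morphisms.FlatDescent

/-!
An isotrivial torus over a field: affine, of finite type, geometrically integral.
-/

set_option autoImplicit false
set_option backward.isDefEq.respectTransparency false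
set_option backward.isDefEq.respectTransparency.types false

universe u

open CategoryTheory Limits AlgebraicGeometry TensorProduct

noncomputable section

namespace Groth.L24.Retract

variable {k : Type u} [Field k]

abbrev geomBase (k : Type u) [Field k] : Spec (CommRingCat.of (AlgebraicClosure k)) ⟶ Spec (CommRingCat.of k) :=
  Spec.map (CommRingCat.ofHom (algebraMap k (AlgebraicClosure k)))

theorem exists_iso_of_isPullback_diag (R Ω : Type u) [CommRing R] [CommRing Ω] [Algebra R Ω]
    (M : Type) [AddCommGroup M] {W : Scheme.{u}} {p₁ : W ⟶ (Red.diag R M).left}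
    {p₂ : W ⟶ Spec (CommRingCat.of Ω)}
    (sq : IsPullback p₁ p₂ (Red.diag R M).hom (Spec.map (CommRingCat.ofHom (algebraMap R Ω)))) :
    ∃ e : W ≅ Spec (CommRingCat.of (MonoidAlgebra Ω (Multiplicative M))),
      e.hom ≫ Spec.map (CommRingCat.ofHom (algebraMap Ω (MonoidAlgebra Ω (Multiplicative M)))) = p₂ := by
  have sq3 : IsPullback
      (Spec.map (CommRingCat.ofHom (Algebra.TensorProduct.includeRight :
        MonoidAlgebra R (Multiplicative M) →ₐ[R] Ω ⊗[R] MonoidAlgebra R (Multiplicative M)).toRingHom))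
      (Spec.map (CommRingCat.ofHom (algebraMap Ω (Ω ⊗[R] MonoidAlgebra R (Multiplicative M)))))
      (Red.diag R M).hom (Spec.map (CommRingCat.ofHom (algebraMap R Ω))) :=
    (isPullback_SpecMap_of_isPushout _ _ _ _
      (CommRingCat.isPushout_tensorProduct R Ω (MonoidAlgebra R (Multiplicative M)))).flip
  let E := MonoidAlgebra.scalarTensorEquiv (R := R) (M := Multiplicative M) Ω
  let eE : Spec (CommRingCat.of (MonoidAlgebra Ω (Multiplicative M))) ≅
      Spec (CommRingCat.of (Ω ⊗[R] MonoidAlgebra R (Multiplicative M))) :=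
    Scheme.Spec.mapIso (E.toRingEquiv.toCommRingCatIso).op
  refine ⟨sq.isoIsPullback _ _ sq3 ≪≫ eE.symm, ?_⟩
  have h1 : eE.inv ≫ Spec.map (CommRingCat.ofHom (algebraMap Ω (MonoidAlgebra Ω (Multiplicative M)))) =
      Spec.map (CommRingCat.ofHom (algebraMap Ω (Ω ⊗[R] MonoidAlgebra R (Multiplicative M)))) := by
    rw [Iso.inv_comp_eq]
    show _ = Spec.map _ ≫ Spec.map _
    rw [← Spec.map_comp]
    congr 1
    exact CommRingCat.hom_ext (RingHom.ext fun c => (E.commutes c).symm)
  rw [Iso.trans_hom, Category.assoc, Iso.symm_hom, h1, sq.isoIsPullback_hom_snd]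

theorem exists_geometric_iso (T : Over (Spec (CommRingCat.of k))) [GrpObj T]
    (hT : ∃ r : ℕ, TwC.Locally (Spec (CommRingCat.of k)) .finiteEtale
        (fun S' g => Red.IsSplitTorusWith (Fin r → ℤ) (Red.bc g T))) :
    ∃ (r : ℕ) (e : pullback T.hom (geomBase k) ≅
        Spec (CommRingCat.of (MonoidAlgebra (AlgebraicClosure k) (Multiplicative (Fin r → ℤ))))),
      e.hom ≫ Spec.map (CommRingCat.ofHom
        (algebraMap (AlgebraicClosure k) (MonoidAlgebra (AlgebraicClosure k) (Multiplicative (Fin r → ℤ))))) =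
        pullback.snd T.hom (geomBase k) := by
  obtain ⟨r, S', f, hf, hf', hfs, hloc⟩ := hT
  let Ω := AlgebraicClosure k
  obtain ⟨s', -⟩ := f.surjective (IsLocalRing.closedPoint k)
  obtain ⟨U, hs', -, ⟨eU⟩⟩ := hloc s'
  haveI : Nonempty ↥(U : Scheme.{u}) := ⟨⟨s', hs'⟩⟩
  let UU : Over (Spec (CommRingCat.of k)) := Over.mk (U.ι ≫ f)
  haveI : LocallyOfFiniteType UU.hom := inferInstanceAs (LocallyOfFiniteType (U.ι ≫ f))
  haveI : Surjective (geomBase k) :=
    ⟨fun c => ⟨IsLocalRing.closedPoint Ω, Subsingleton.elim (α := PrimeSpectrum k) _ _⟩⟩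
  obtain ⟨z, -⟩ := (pullback.fst UU.hom (geomBase k)).surjective (⟨s', hs'⟩ : (U : Scheme.{u}))
  haveI : JacobsonSpace ↥(pullback UU.hom (geomBase k)) :=
    LocallyOfFiniteType.jacobsonSpace (pullback.snd UU.hom (geomBase k))
  haveI : Nonempty ↥(pullback UU.hom (geomBase k)) := ⟨z⟩
  obtain ⟨x, -, hx⟩ := nonempty_inter_closedPoints
    (Set.univ_nonempty (α := ↥(pullback UU.hom (geomBase k)))) isOpen_univ.isLocallyClosed
  let p' : Spec (CommRingCat.of Ω) ⟶ (U : Scheme.{u}) :=
    pointOfClosedPoint (pullback.snd UU.hom (geomBase k)) x hx ≫ pullback.fst UU.hom (geomBase k)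
  have hp : p' ≫ (U.ι ≫ f) = geomBase k := by
    show (_ ≫ pullback.fst UU.hom (geomBase k)) ≫ UU.hom = _
    rw [Category.assoc, pullback.condition, pointOfClosedPoint_comp_assoc]
  let M := Fin r → ℤ
  let e₀ : (Red.bc (U.ι ≫ f) T) ≅ Red.DS (U : Scheme.{u}) M := (Grp.forget _).mapIso eU
  let e : pullback T.hom (U.ι ≫ f) ≅ (Red.DS (U : Scheme.{u}) M).left := (Over.forget _).mapIso e₀
  have he : e.hom ≫ (Red.DS (U : Scheme.{u}) M).hom = pullback.snd T.hom (U.ι ≫ f) := Over.w e₀.hom
  -- `T_Ω` is the base change of the split torus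
  let W := pullback (Red.DS (U : Scheme.{u}) M).hom p'
  have hw : pullback.fst (Red.DS (U : Scheme.{u}) M).hom p' ≫ (Red.DS (U : Scheme.{u}) M).hom =
      pullback.snd (Red.DS (U : Scheme.{u}) M).hom p' ≫ p' := pullback.condition
  have sqT : IsPullback (e.inv ≫ pullback.fst T.hom (U.ι ≫ f)) (Red.DS (U : Scheme.{u}) M).hom T.hom (U.ι ≫ f) :=
    (IsPullback.of_hasPullback T.hom (U.ι ≫ f)).of_iso e (Iso.refl _) (Iso.refl _) (Iso.refl _)
      (by rw [Iso.refl_hom, Category.comp_id, Iso.hom_inv_id_assoc])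
      (by rw [Iso.refl_hom, Category.comp_id, he]) (by simp) (by simp)
  have sq1 := (IsPullback.of_hasPullback (Red.DS (U : Scheme.{u}) M).hom p').paste_horiz sqT
  rw [hp] at sq1
  let t := Limits.IsTerminal.from specULiftZIsTerminal (U : Scheme.{u})
  have sqD : IsPullback (pullback.fst (Red.diag (ULift.{u} ℤ) M).hom t) (Red.DS (U : Scheme.{u}) M).hom
      (Red.diag (ULift.{u} ℤ) M).hom t := IsPullback.of_hasPullback _ _
  have sq2 := (IsPullback.of_hasPullback (Red.DS (U : Scheme.{u}) M).hom p').paste_horiz sqD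
  letI : Algebra (ULift.{u} ℤ) Ω := ((Int.castRingHom Ω).comp ULift.ringEquiv.toRingHom).toAlgebra
  rw [show p' ≫ t = Spec.map (CommRingCat.ofHom (algebraMap (ULift.{u} ℤ) Ω)) from
    specULiftZIsTerminal.hom_ext _ _] at sq2
  obtain ⟨e₂, he₂⟩ := exists_iso_of_isPullback_diag (ULift.{u} ℤ) Ω M sq2
  refine ⟨r, (sq1.isoPullback).symm ≪≫ e₂, ?_⟩
  rw [← cancel_epi sq1.isoPullback.hom]
  simp only [Iso.trans_hom, Iso.symm_hom, Category.assoc, Iso.hom_inv_id_assoc]
  rw [sq1.isoPullback_hom_snd]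
  exact he₂

theorem domain_facts (T : Over (Spec (CommRingCat.of k))) [GrpObj T]
    (hT : ∃ r : ℕ, TwC.Locally (Spec (CommRingCat.of k)) .finiteEtale
        (fun S' g => Red.IsSplitTorusWith (Fin r → ℤ) (Red.bc g T))) :
    IsAffine T.left ∧ LocallyOfFiniteType T.hom ∧ IsIntegral (pullback T.hom (geomBase k)) := by
  obtain ⟨r, e, he⟩ := exists_geometric_iso T hT
  let Ω := AlgebraicClosure k
  let B := MonoidAlgebra Ω (Multiplicative (Fin r → ℤ))
  haveI : IsDomain B := NoZeroDivisors.to_isDomain _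
  haveI : IsIntegral (pullback T.hom (geomBase k)) := by
    haveI : Nonempty ↥(pullback T.hom (geomBase k)) := ⟨e.inv (Classical.arbitrary _)⟩
    exact isIntegral_of_isOpenImmersion e.hom
  have hb : (@Surjective ⊓ @Flat ⊓ @QuasiCompact : MorphismProperty Scheme.{u}) (geomBase k) :=
    ⟨⟨⟨fun c => ⟨IsLocalRing.closedPoint Ω, Subsingleton.elim (α := PrimeSpectrum k) _ _⟩⟩, inferInstance⟩,
      inferInstance⟩
  have h1 : IsAffineHom (pullback.snd T.hom (geomBase k)) := by rw [← he]; infer_instance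
  have h2 : LocallyOfFiniteType (pullback.snd T.hom (geomBase k)) := by
    haveI : LocallyOfFiniteType (Spec.map (CommRingCat.ofHom (algebraMap Ω B))) := by
      rw [HasRingHomProperty.Spec_iff (P := @LocallyOfFiniteType)]
      haveI : Algebra.FiniteType Ω B := inferInstance
      simpa [RingHom.finiteType_algebraMap] using ‹Algebra.FiniteType Ω B›
    rw [← he]; infer_instance
  have h3 : IsAffineHom T.hom :=
    MorphismProperty.of_pullback_snd_of_descendsAlong (P := @IsAffineHom) hb h1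
  refine ⟨isAffine_of_isAffineHom T.hom, ?_, inferInstance⟩
  exact MorphismProperty.of_pullback_snd_of_descendsAlong (P := @LocallyOfFiniteType) hb h2

end Groth.L24.Retract
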