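import Groth.Agent.L26.Res.Sep
import Mathlib.FieldTheory.SeparablyGenerated
import Mathlib.FieldTheory.PrimitiveElement
import Mathlib.RingTheory.Polynomial.GaussLemma
import Mathlib.RingTheory.Polynomial.UniqueFactorization
import Mathlib.RingTheory.DiscreteValuationRing.TFAE
import Mathlib.RingTheory.Localization.Away.Basic

/-!
Retract rationality from the lifting property along discrete valuation rings.
-/

set_option autoImplicit false

universe u

open TensorProduct

namespace Groth.L24.Retract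

variable {k : Type u} [Field k]

/-- A finitely generated extension that stays a field over the algebraic closure is separably generated. -/
theorem exists_separating_basis {K : Type u} [Field K] [Algebra k K] [Algebra.EssFiniteType k K]
    (hF : IsField (AlgebraicClosure k ⊗[k] K)) :
    ∃ s : Finset K, IsTranscendenceBasis k ((↑) : s → K) ∧
      Algebra.IsSeparable (IntermediateField.adjoin k (s : Set K)) K := by
  classical
  rcases CharP.exists' k with hch | ⟨p, hp, hpk⟩
  · exact exists_isTranscendenceBasis_and_isSeparable_of_perfectField k K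
  have : ExpChar k p := .prime hp.out
  refine exists_isTranscendenceBasis_and_isSeparable_of_linearIndepOn_pow_of_essFiniteType p hp.out
    (fun s hs => ?_)
  rw [linearIndepOn_finset_iff]
  intro c hc x hx
  choose γ hγ using fun i : K => IsAlgClosed.exists_pow_nat_eq (algebraMap k (AlgebraicClosure k) (c i)) hp.out.pos
  exact Groth.Agent.Res.pow_char_aux hF p hs c γ (fun i _ => hγ i) hc hx

/-- The kernel of the evaluation at a root is principal over a factorial domain. -/
theorem exists_prime_ker_eval₂ {R K : Type u} [CommRing R] [IsDomain R] [UniqueFactorizationMonoid R]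
    [Field K] (ψ : R →+* K) (hψ : Function.Injective ψ) (θ : K)
    (hne : RingHom.ker (Polynomial.eval₂RingHom ψ θ) ≠ ⊥) :
    ∃ f : Polynomial R, Prime f ∧ RingHom.ker (Polynomial.eval₂RingHom ψ θ) = Ideal.span {f} := by
  classical
  obtain ⟨f, hf, hfp⟩ :=
    (RingHom.ker_isPrime (Polynomial.eval₂RingHom ψ θ)).exists_mem_prime_of_ne_bot hne
  have hf0 : f.natDegree ≠ 0 := by
    intro h0
    obtain ⟨c, rfl⟩ := Polynomial.natDegree_eq_zero.1 h0
    have : ψ c = 0 := by simpa using hf
    exact hfp.ne_zero (by rw [hψ (this.trans (map_zero ψ).symm), map_zero])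
  have hprim : f.IsPrimitive := hfp.irreducible.isPrimitive hf0
  let χ : FractionRing R →+* K := IsFractionRing.lift (g := ψ) hψ
  have hχ : χ.comp (algebraMap R (FractionRing R)) = ψ := RingHom.ext (IsFractionRing.lift_algebraMap hψ)
  let fQ := f.map (algebraMap R (FractionRing R))
  have hirr : Irreducible fQ := hprim.irreducible_iff_irreducible_map_fraction_map.1 hfp.irreducible
  refine ⟨f, hfp, le_antisymm (fun g hg => ?_) ((Ideal.span_singleton_le_iff_mem _).2 hf)⟩
  have hroot : ∀ q : Polynomial R, Polynomial.eval₂ χ θ (q.map (algebraMap R (FractionRing R))) =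
      Polynomial.eval₂RingHom ψ θ q := fun q => by
    rw [Polynomial.eval₂_map, hχ]
    rfl
  have hmax : (Ideal.span {fQ}).IsMaximal := PrincipalIdealRing.isMaximal_of_irreducible hirr
  have hkerQ : RingHom.ker (Polynomial.eval₂RingHom χ θ) = Ideal.span {fQ} := by
    refine (hmax.eq_of_le (RingHom.ker_ne_top _) ((Ideal.span_singleton_le_iff_mem _).2 ?_)).symm
    exact (hroot f).trans hf
  have hdvd : fQ ∣ g.map (algebraMap R (FractionRing R)) := by
    rw [← Ideal.mem_span_singleton, ← hkerQ]
    exact (hroot g).trans hg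
  rw [Ideal.mem_span_singleton]
  by_cases hg0 : g = 0
  · rw [hg0]; exact dvd_zero _
  letI : NormalizedGCDMonoid R := Classical.choice inferInstance
  rw [g.eq_C_content_mul_primPart, Polynomial.map_mul] at hdvd
  have hu : IsUnit ((Polynomial.C g.content).map (algebraMap R (FractionRing R))) := by
    rw [Polynomial.map_C, Polynomial.isUnit_C, isUnit_iff_ne_zero]
    exact fun h => hg0 (Polynomial.content_eq_zero_iff.1
      ((map_eq_zero_iff _ (IsFractionRing.injective R (FractionRing R))).1 h))
  have := hprim.dvd_of_fraction_map_dvd_fraction_map (hu.dvd_mul_left.1 hdvd)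
  rw [g.eq_C_content_mul_primPart]
  exact dvd_mul_of_dvd_right this _

set_option maxHeartbeats 1000000 in
/-- A separably generated extension is the function field of a hypersurface. -/
theorem exists_hypersurface {K : Type u} [Field K] [Algebra k K] [Algebra.EssFiniteType k K]
    (hF : IsField (AlgebraicClosure k ⊗[k] K)) :
    ∃ (n : ℕ) (φ : MvPolynomial (Fin n) k →ₐ[k] K) (f : MvPolynomial (Fin n) k),
      f ≠ 0 ∧ RingHom.ker φ = Ideal.span {f} ∧ IntermediateField.adjoin k (Set.range φ) = ⊤ := by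
  classical
  obtain ⟨s, hs, hsep⟩ := exists_separating_basis hF
  let m := s.card
  let v : Fin m → K := fun i => (s.equivFin.symm i : K)
  have hv : AlgebraicIndependent k v := hs.1.comp _ s.equivFin.symm.injective
  have hrange : Set.range v = (s : Set K) := by
    ext x
    exact ⟨fun ⟨i, hi⟩ => hi ▸ (s.equivFin.symm i).2, fun hx => ⟨s.equivFin ⟨x, hx⟩, by simp [v]⟩⟩
  let F := IntermediateField.adjoin k (s : Set K)
  haveI : Algebra.IsAlgebraic F K := inferInstance
  haveI : Algebra.EssFiniteType F K := Algebra.EssFiniteType.of_comp k F K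
  haveI : FiniteDimensional F K := Algebra.finite_of_essFiniteType_of_isAlgebraic
  obtain ⟨θ, hθ⟩ := Field.exists_primitive_element F K
  let ψ : MvPolynomial (Fin m) k →ₐ[k] K := MvPolynomial.aeval v
  have hψ : Function.Injective ψ := hv
  have hψF : ∀ r, ψ r ∈ F := fun r => by
    refine (IntermediateField.algebra_adjoin_le_adjoin k (s : Set K)) ?_
    rw [← hrange, Algebra.adjoin_range_eq_range_aeval]
    exact ⟨r, rfl⟩
  let φ₀ : Polynomial (MvPolynomial (Fin m) k) →+* K := Polynomial.eval₂RingHom ψ.toRingHom θ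
  let e : MvPolynomial (Fin (m + 1)) k ≃ₐ[k] Polynomial (MvPolynomial (Fin m) k) := MvPolynomial.finSuccEquiv k m
  let φ : MvPolynomial (Fin (m + 1)) k →ₐ[k] K := MvPolynomial.aeval (Fin.cons θ v)
  have hφ : ∀ x, φ x = φ₀ (e x) := by
    intro x
    refine RingHom.congr_fun (?_ : φ.toRingHom = φ₀.comp e.toRingEquiv.toRingHom) x
    refine MvPolynomial.ringHom_ext (fun c => ?_) (fun i => ?_)
    · simp [φ, φ₀, e, ψ, MvPolynomial.finSuccEquiv_apply]
    · refine Fin.cases ?_ (fun j => ?_) i
      · simp [φ, φ₀, e, MvPolynomial.finSuccEquiv_apply]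
      · simp [φ, φ₀, e, ψ, MvPolynomial.finSuccEquiv_apply]
  haveI hker : (RingHom.ker φ₀).IsPrime := RingHom.ker_isPrime _
  have hne : RingHom.ker φ₀ ≠ ⊥ := by
    intro h0
    have hinj : Function.Injective φ := fun a b hab => e.injective ((RingHom.injective_iff_ker_eq_bot φ₀).2 h0
      ((hφ a).symm.trans (hab.trans (hφ b))))
    have hind : AlgebraicIndependent k (Fin.cons θ v : Fin (m + 1) → K) := hinj
    have hθ' : ¬ IsAlgebraic (Algebra.adjoin k (Set.range v)) θ := by
      have := hind.transcendental_adjoin_iff (s := Set.range Fin.succ) (i := (0 : Fin (m + 1)))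
      rw [← Set.range_comp] at this
      exact this.2 (fun ⟨j, hj⟩ => Fin.succ_ne_zero j hj)
    rw [hrange] at hθ'
    exact hθ' (IntermediateField.isAlgebraic_adjoin_iff.1 (Algebra.IsAlgebraic.isAlgebraic θ))
  obtain ⟨f, hfp, heq⟩ := exists_prime_ker_eval₂ ψ.toRingHom hψ θ hne
  refine ⟨m + 1, φ, e.symm f, fun h => hfp.ne_zero ((map_eq_zero_iff _ e.symm.injective).1 h), ?_, ?_⟩
  · ext x
    rw [RingHom.mem_ker, hφ, ← RingHom.mem_ker, heq, Ideal.mem_span_singleton, Ideal.mem_span_singleton,
      ← map_dvd_iff e, AlgEquiv.apply_symm_apply]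
  · refine top_unique fun x _ => ?_
    let L := IntermediateField.adjoin k (Set.range φ)
    have hle : F ≤ L := by
      rw [IntermediateField.adjoin_le_iff, ← hrange]
      rintro _ ⟨i, rfl⟩
      exact IntermediateField.subset_adjoin k _ ⟨MvPolynomial.X i.succ, by simp [φ]⟩
    have hx : x ∈ IntermediateField.adjoin F {θ} := by rw [hθ]; trivial
    refine (IntermediateField.adjoin_le_iff.2 (Set.singleton_subset_iff.2 ?_) :
      IntermediateField.adjoin F {θ} ≤ IntermediateField.extendScalars hle) hx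
    exact IntermediateField.subset_adjoin k _ ⟨MvPolynomial.X 0, by simp [φ]⟩

set_option maxHeartbeats 2000000 in
/-- The lifting property along discrete valuation rings gives a retraction on an open piece. -/
theorem exists_retract (Γ : Type u) [CommRing Γ] [IsDomain Γ] [Algebra k Γ] [Algebra.FiniteType k Γ]
    (hF : IsField (AlgebraicClosure k ⊗[k] FractionRing Γ))
    (hlift : ∀ (A : Type u) [CommRing A] [IsDomain A] [IsDiscreteValuationRing A] [Algebra k A]
      (u : Γ →ₐ[k] IsLocalRing.ResidueField A), ∃ s : Γ →ₐ[k] A, ∀ x, IsLocalRing.residue A (s x) = u x) :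
    ∃ (h : Γ) (n : ℕ) (g : MvPolynomial (Fin n) k)
      (a : Localization.Away g →ₐ[k] Localization.Away h) (b : Localization.Away h →ₐ[k] Localization.Away g),
      h ≠ 0 ∧ a.comp b = AlgHom.id k _ := by
  classical
  let K := FractionRing Γ
  haveI : Algebra.EssFiniteType k K := Algebra.EssFiniteType.comp k Γ K
  obtain ⟨n, φ, f, hf0, hkerf, hgen⟩ := exists_hypersurface (K := K) hF
  let R := MvPolynomial (Fin n) k
  let P : Ideal R := RingHom.ker φ
  haveI hP : P.IsPrime := RingHom.ker_isPrime _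
  let A := Localization.AtPrime P
  have hfA : algebraMap R A f ≠ 0 := fun h =>
    hf0 (IsLocalization.injective A P.primeCompl_le_nonZeroDivisors (h.trans (map_zero _).symm))
  haveI : IsDiscreteValuationRing A := by
    haveI : IsNoetherianRing A := IsLocalization.isNoetherianRing P.primeCompl A inferInstance
    have hmax : IsLocalRing.maximalIdeal A = Ideal.span {algebraMap R A f} := by
      refine Localization.AtPrime.map_eq_maximalIdeal.symm.trans ?_
      refine (congrArg (Ideal.map (algebraMap R A)) hkerf).trans ?_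
      rw [Ideal.map_span, Set.image_singleton]
    have hnf : ¬ IsField A := fun h => hfA ((Ideal.span_singleton_eq_bot).1
      (hmax.symm.trans (IsLocalRing.isField_iff_maximalIdeal_eq.1 h)))
    haveI hpr : (IsLocalRing.maximalIdeal A).IsPrincipal := by
      rw [hmax]; exact ⟨⟨_, rfl⟩⟩
    exact ((IsDiscreteValuationRing.TFAE A hnf).out 4 0).1 hpr
  have hφu : ∀ y : P.primeCompl, IsUnit (φ y) := fun y => isUnit_iff_ne_zero.2 y.2
  let ψ : A →ₐ[k] K := IsLocalization.liftAlgHom (M := P.primeCompl) (f := φ) hφu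
  have hψ : ∀ r, ψ (algebraMap R A r) = φ r := fun r => IsLocalization.lift_eq hφu r
  have hψk : ∀ a ∈ IsLocalRing.maximalIdeal A, ψ a = 0 := fun a ha => by
    rw [← Localization.AtPrime.map_eq_maximalIdeal] at ha
    have : (P.map (algebraMap R A)) ≤ RingHom.ker ψ := Ideal.map_le_iff_le_comap.2 fun r hr => (hψ r).trans hr
    exact this ha
  let ψk : IsLocalRing.ResidueField A →ₐ[k] K :=
    Ideal.Quotient.liftₐ (IsLocalRing.maximalIdeal A) ψ hψk
  have hψks : Function.Surjective ψk := by
    intro x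
    have : IntermediateField.adjoin k (Set.range φ) ≤ ψk.fieldRange :=
      IntermediateField.adjoin_le_iff.2 (by rintro _ ⟨r, rfl⟩; exact ⟨Ideal.Quotient.mk _ (algebraMap R A r), hψ r⟩)
    exact this (hgen ▸ IntermediateField.mem_top)
  let eK : IsLocalRing.ResidueField A ≃ₐ[k] K := AlgEquiv.ofBijective ψk ⟨ψk.toRingHom.injective, hψks⟩
  obtain ⟨s, hs⟩ := hlift A (eK.symm.toAlgHom.comp (IsScalarTower.toAlgHom k Γ K))
  have hsψ : ∀ x, ψ (s x) = algebraMap Γ K x := fun x => by
    have := congrArg eK (hs x)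
    simp only [AlgHom.comp_apply, AlgEquiv.toAlgHom_apply, AlgEquiv.apply_symm_apply] at this
    exact this
  -- spreading out of the lift
  obtain ⟨t, ht⟩ := (‹Algebra.FiniteType k Γ›).out
  choose r c hrc using fun x : t => IsLocalization.exists_mk'_eq P.primeCompl (s x.1)
  let g₁ : R := ∏ x, (c x : R)
  have hg₁ : φ g₁ ≠ 0 := by
    rw [map_prod]; exact Finset.prod_ne_zero_iff.2 fun x _ => (c x).2
  let R₁ := Localization.Away g₁
  have hunit₁ : IsUnit (algebraMap R A g₁) := IsLocalization.map_units A (⟨g₁, hg₁⟩ : P.primeCompl)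
  let ι₁ : R₁ →ₐ[k] A := IsLocalization.liftAlgHom (M := Submonoid.powers g₁)
    (f := IsScalarTower.toAlgHom k R A) (fun y => by
      obtain ⟨i, hi⟩ := y.2
      rw [← hi, map_pow]; exact hunit₁.pow _)
  have hι₁ : ∀ x, ι₁ (algebraMap R R₁ x) = algebraMap R A x := fun x => IsLocalization.lift_eq _ x
  have hι₁i : Function.Injective ι₁ := by
    refine (injective_iff_map_eq_zero ι₁).2 fun z hz => ?_
    obtain ⟨⟨a, y⟩, hay⟩ := IsLocalization.surj (Submonoid.powers g₁) z
    have ha : algebraMap R A a = 0 := by rw [← hι₁, ← hay, map_mul, hz, zero_mul]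
    rw [IsLocalization.injective A P.primeCompl_le_nonZeroDivisors (ha.trans (map_zero _).symm), map_zero] at hay
    exact ((IsLocalization.map_units R₁ y).mul_left_eq_zero).1 hay
  have hrange : ∀ x, s x ∈ ι₁.range := by
    have : Algebra.adjoin k (t : Set Γ) ≤ ι₁.range.comap s := Algebra.adjoin_le fun x hx => by
      have hdvd : (c ⟨x, hx⟩ : R) ∣ g₁ := Finset.dvd_prod_of_mem _ (Finset.mem_univ _)
      obtain ⟨d, hd⟩ := hdvd
      refine ⟨algebraMap R R₁ (r ⟨x, hx⟩ * d) * IsLocalization.Away.invSelf g₁, ?_⟩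
      show ι₁ _ = s x
      refine hunit₁.mul_right_cancel ?_
      rw [map_mul, hι₁, mul_assoc, ← hι₁ g₁, ← map_mul ι₁, mul_comm (IsLocalization.Away.invSelf g₁),
        IsLocalization.Away.mul_invSelf, map_one, mul_one, hι₁, ← hrc ⟨x, hx⟩, map_mul, hd, map_mul, ← mul_assoc,
        IsLocalization.mk'_spec]
    exact fun x => this (by rw [ht]; trivial)
  let s₁ : Γ →ₐ[k] R₁ :=
    (AlgEquiv.ofInjective ι₁ hι₁i).symm.toAlgHom.comp (s.codRestrict ι₁.range hrange)
  have hs₁ : ∀ x, ι₁ (s₁ x) = s x := fun x =>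
    congrArg Subtype.val ((AlgEquiv.ofInjective ι₁ hι₁i).apply_symm_apply ⟨s x, hrange x⟩)
  -- the open piece of `Γ`
  have hloc : ∀ z : R, ∃ d : Γ, d ≠ 0 ∧ ∃ e : Γ, φ z * algebraMap Γ K d = algebraMap Γ K e := fun z => by
    obtain ⟨⟨e, d⟩, he⟩ := IsLocalization.surj (nonZeroDivisors Γ) (φ z)
    exact ⟨d, nonZeroDivisors.coe_ne_zero d, e, he⟩
  choose d hd e he using hloc
  let D : Γ := ∏ i : Fin n, d (MvPolynomial.X i)
  have hD : D ≠ 0 := Finset.prod_ne_zero_iff.2 fun i _ => hd _
  have he1 : e g₁ ≠ 0 := fun h0 => by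
    have := he g₁
    rw [h0, map_zero, mul_eq_zero] at this
    exact this.elim hg₁ (fun h => hd g₁ (IsFractionRing.injective Γ K (h.trans (map_zero _).symm)))
  let h := D * d g₁ * e g₁
  have hh : h ≠ 0 := mul_ne_zero (mul_ne_zero hD (hd g₁)) he1
  let L := Localization.Away h
  haveI : IsDomain L := IsLocalization.isDomain_of_le_nonZeroDivisors L (powers_le_nonZeroDivisors_of_noZeroDivisors hh)
  have hLu : ∀ y : Submonoid.powers h, IsUnit (algebraMap Γ K y) := fun y => by
    obtain ⟨i, hi⟩ := y.2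
    rw [← hi, map_pow]
    exact (isUnit_iff_ne_zero.2 ((map_ne_zero_iff _ (IsFractionRing.injective Γ K)).2 hh)).pow _
  let κ : L →ₐ[k] K := IsLocalization.liftAlgHom (M := Submonoid.powers h) (f := IsScalarTower.toAlgHom k Γ K) hLu
  have hκ : ∀ x, κ (algebraMap Γ L x) = algebraMap Γ K x := fun x => IsLocalization.lift_eq _ x
  have hκi : Function.Injective κ := by
    refine (injective_iff_map_eq_zero κ).2 fun z hz => ?_
    obtain ⟨⟨a, y⟩, hay⟩ := IsLocalization.surj (Submonoid.powers h) z
    have ha : algebraMap Γ K a = 0 := by rw [← hκ, ← hay, map_mul, hz, zero_mul]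
    rw [IsFractionRing.injective Γ K (ha.trans (map_zero _).symm), map_zero] at hay
    exact ((IsLocalization.map_units L y).mul_left_eq_zero).1 hay
  have hX : ∀ i, φ (MvPolynomial.X i) ∈ κ.range := fun i => by
    let z := MvPolynomial.X (R := k) i
    obtain ⟨d', hd'⟩ : d z ∣ h :=
      dvd_mul_of_dvd_left (dvd_mul_of_dvd_left (Finset.dvd_prod_of_mem _ (Finset.mem_univ i)) _) _
    refine ⟨algebraMap Γ L (e z * d') * IsLocalization.Away.invSelf h, ?_⟩
    have hu : IsUnit (algebraMap Γ K h) := hLu ⟨h, Submonoid.mem_powers h⟩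
    refine hu.mul_right_cancel ?_
    show κ _ * _ = φ z * _
    rw [map_mul, hκ, mul_assoc, ← hκ h, ← map_mul κ, mul_comm (IsLocalization.Away.invSelf h),
      IsLocalization.Away.mul_invSelf, map_one, mul_one, hκ, hd', map_mul, map_mul, ← mul_assoc, he]
  have hφr : ∀ z, φ z ∈ κ.range := fun z => by
    have : Algebra.adjoin k (Set.range (MvPolynomial.X : Fin n → R)) ≤ κ.range.comap φ :=
      Algebra.adjoin_le (by rintro _ ⟨i, rfl⟩; exact hX i)
    exact this (by rw [MvPolynomial.adjoin_range_X]; trivial)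
  let φL : R →ₐ[k] L := (AlgEquiv.ofInjective κ hκi).symm.toAlgHom.comp (φ.codRestrict κ.range hφr)
  have hφL : ∀ z, κ (φL z) = φ z := fun z =>
    congrArg Subtype.val ((AlgEquiv.ofInjective κ hκi).apply_symm_apply ⟨φ z, hφr z⟩)
  have hg₁L : IsUnit (φL g₁) := by
    refine isUnit_of_mul_isUnit_left (y := algebraMap Γ L (d g₁)) ?_
    have : φL g₁ * algebraMap Γ L (d g₁) = algebraMap Γ L (e g₁) := hκi (by
      rw [map_mul, hφL, hκ, hκ, he])
    rw [this]
    exact isUnit_of_dvd_unit (map_dvd _ (dvd_mul_left (e g₁) (D * d g₁)))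
      (IsLocalization.Away.algebraMap_isUnit (S := L) h)
  -- shrink on the side of affine space
  obtain ⟨⟨q, y⟩, hq⟩ := IsLocalization.surj (Submonoid.powers g₁) (s₁ h)
  let g := g₁ * q
  let R₂ := Localization.Away g
  have hg₂ : ∀ w : R, w ∣ g → IsUnit (algebraMap R R₂ w) := fun w hw =>
    isUnit_of_dvd_unit (map_dvd _ hw) (IsLocalization.Away.algebraMap_isUnit g)
  let res : R₁ →ₐ[k] R₂ := IsLocalization.liftAlgHom (M := Submonoid.powers g₁)
    (f := IsScalarTower.toAlgHom k R R₂) (fun w => by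
      obtain ⟨i, hi⟩ := w.2
      rw [← hi, map_pow]; exact (hg₂ g₁ (dvd_mul_right _ _)).pow _)
  have hres : ∀ x, res (algebraMap R R₁ x) = algebraMap R R₂ x := fun x => IsLocalization.lift_eq _ x
  have hsh : IsUnit (res (s₁ h)) := by
    refine isUnit_of_mul_isUnit_left (y := res (algebraMap R R₁ y)) ?_
    rw [← map_mul, hq, hres]
    exact hg₂ q (dvd_mul_left _ _)
  let b : L →ₐ[k] R₂ := IsLocalization.liftAlgHom (M := Submonoid.powers h) (f := res.comp s₁) (fun w => by
    obtain ⟨i, hi⟩ := w.2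
    rw [← hi, map_pow]; exact hsh.pow _)
  have hb : ∀ x, b (algebraMap Γ L x) = res (s₁ x) := fun x => IsLocalization.lift_eq _ x
  have hψι : ∀ z, ψ (ι₁ (algebraMap R R₁ z)) = κ (φL z) := fun z => by rw [hι₁, hψ, hφL]
  have hqL : IsUnit (φL q) := by
    have he2 : φL q = algebraMap Γ L h * φL y := hκi (by
      rw [map_mul, hκ, ← hψι, ← hψι, ← hq, map_mul, map_mul, hs₁, hsψ])
    rw [he2]
    obtain ⟨i, hi⟩ := y.2
    rw [← hi, map_pow]
    exact (IsLocalization.Away.algebraMap_isUnit (S := L) h).mul (hg₁L.pow _)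
  let a : R₂ →ₐ[k] L := IsLocalization.liftAlgHom (M := Submonoid.powers g) (f := φL) (fun w => by
    obtain ⟨i, hi⟩ := w.2
    rw [← hi, map_pow, map_mul]; exact (hg₁L.mul hqL).pow _)
  have ha : ∀ z, a (algebraMap R R₂ z) = φL z := fun z => IsLocalization.lift_eq _ z
  refine ⟨h, n, g, a, b, hh, ?_⟩
  have hcomm : ∀ z : R₁, κ (a (res z)) = ψ (ι₁ z) := fun z => by
    refine RingHom.congr_fun (?_ : (κ.comp (a.comp res)).toRingHom = (ψ.comp ι₁).toRingHom) z
    refine IsLocalization.ringHom_ext (Submonoid.powers g₁) (RingHom.ext fun z => ?_)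
    exact (congrArg κ ((congrArg a (hres z)).trans (ha z))).trans (hψι z).symm
  refine AlgHom.coe_ringHom_injective (IsLocalization.ringHom_ext (Submonoid.powers h) (RingHom.ext fun x => ?_))
  refine hκi ?_
  show κ (a (b (algebraMap Γ L x))) = κ (algebraMap Γ L x)
  rw [hb, hcomm, hs₁, hsψ, hκ]

end Groth.L24.Retract
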