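import Groth.Agent.L24.Retract.Torus
import Mathlib.RingTheory.IntegralClosure.IsIntegral.Basic
import Mathlib.RingTheory.Flat.Basic

/-!
Retract rationality of a torus from lifting along discrete valuation rings.
-/

set_option autoImplicit false
set_option backward.isDefEq.respectTransparency false
set_option backward.isDefEq.respectTransparency.types false

universe u

open CategoryTheory Limits AlgebraicGeometry TensorProduct

noncomputable section

namespace Groth.L24.Retract

variable {k : Type u} [Field k]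

theorem isField_tensor_fractionRing (Γ : Type u) [CommRing Γ] [IsDomain Γ] [Algebra k Γ]
    [IsDomain (AlgebraicClosure k ⊗[k] Γ)] : IsField (AlgebraicClosure k ⊗[k] FractionRing Γ) := by
  let Ω := AlgebraicClosure k
  let K := FractionRing Γ
  let Γ' := Ω ⊗[k] Γ
  let L := FractionRing Γ'
  let iK : Γ →ₐ[k] L := (IsScalarTower.toAlgHom k Γ' L).comp Algebra.TensorProduct.includeRight
  have hiK : Function.Injective iK := (IsFractionRing.injective Γ' L).comp
    (Algebra.TensorProduct.includeRight_injective (algebraMap k Ω).injective)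
  let jK : K →ₐ[k] L := IsFractionRing.liftAlgHom hiK
  let ι : Ω ⊗[k] K →ₐ[k] L := Algebra.TensorProduct.lift
    ((IsScalarTower.toAlgHom k Γ' L).comp Algebra.TensorProduct.includeLeft) jK fun _ _ => Commute.all _ _
  let μ : Γ' →ₐ[k] Ω ⊗[k] K := Algebra.TensorProduct.map (AlgHom.id k Ω) (IsScalarTower.toAlgHom k Γ K)
  have hμ : ∀ w, ι (μ w) = algebraMap Γ' L w := fun w => by
    refine AlgHom.congr_fun (?_ : ι.comp μ = IsScalarTower.toAlgHom k Γ' L) w
    refine Algebra.TensorProduct.ext ?_ ?_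
    · ext a; simp [ι, μ]; rfl
    · ext b; simp [ι, μ, jK, iK]; rfl
  have key : ∀ z : Ω ⊗[k] K, ∃ (d : nonZeroDivisors Γ) (w : Γ'), (1 ⊗ₜ algebraMap Γ K d) * z = μ w := by
    intro z
    induction z using TensorProduct.induction_on with
    | zero => exact ⟨1, 0, by simp⟩
    | tmul a b =>
      obtain ⟨⟨c, d⟩, hcd⟩ := IsLocalization.surj (nonZeroDivisors Γ) b
      exact ⟨d, a ⊗ₜ c, by
        rw [Algebra.TensorProduct.tmul_mul_tmul, one_mul, mul_comm, hcd]; rfl⟩
    | add x y hx hy =>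
      obtain ⟨d, w, hw⟩ := hx
      obtain ⟨d', w', hw'⟩ := hy
      refine ⟨d * d', (1 ⊗ₜ (d' : Γ)) * w + (1 ⊗ₜ (d : Γ)) * w', ?_⟩
      rw [map_add, map_mul, map_mul, ← hw, ← hw']
      rw [show μ ((1 : Ω) ⊗ₜ[k] (d' : Γ)) = (1 : Ω) ⊗ₜ[k] algebraMap Γ K d' from rfl,
        show μ ((1 : Ω) ⊗ₜ[k] (d : Γ)) = (1 : Ω) ⊗ₜ[k] algebraMap Γ K d from rfl,
        Submonoid.coe_mul, map_mul]
      rw [show (1 : Ω) ⊗ₜ[k] (algebraMap Γ K d * algebraMap Γ K d') =
        (1 ⊗ₜ algebraMap Γ K d) * (1 ⊗ₜ algebraMap Γ K d') by simp]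
      ring
  have hι : Function.Injective ι := by
    refine (injective_iff_map_eq_zero ι).2 fun z hz => ?_
    obtain ⟨d, w, hw⟩ := key z
    have : algebraMap Γ' L w = 0 := by rw [← hμ, ← hw, map_mul, hz, mul_zero]
    rw [IsFractionRing.injective Γ' L (this.trans (map_zero _).symm), map_zero] at hw
    have hu : IsUnit ((1 : Ω) ⊗ₜ[k] algebraMap Γ K (d : Γ)) :=
      (IsLocalization.map_units K d).map Algebra.TensorProduct.includeRight
    exact hu.mul_right_eq_zero.1 hw
  haveI : IsDomain (Ω ⊗[k] K) := hι.isDomain ι.toRingHom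
  haveI : IsDomain (K ⊗[k] Ω) := (Algebra.TensorProduct.comm k K Ω).toMulEquiv.isDomain _
  haveI : Algebra.IsIntegral K (K ⊗[k] Ω) := inferInstance
  exact (Algebra.TensorProduct.comm k Ω K).toMulEquiv.isField
    (isField_of_isIntegral_of_isField' (Field.toIsField K))

theorem exists_retraction (T : Over (Spec (CommRingCat.of k))) [GrpObj T]
    (hT : ∃ r : ℕ, TwC.Locally (Spec (CommRingCat.of k)) .finiteEtale
        (fun S' g => Red.IsSplitTorusWith (Fin r → ℤ) (Red.bc g T)))
    (h : ∀ (A : Type u) [CommRing A] [IsDomain A] [IsDiscreteValuationRing A] [Algebra k A]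
        (u : Spec (CommRingCat.of (IsLocalRing.ResidueField A)) ⟶ T.left),
        u ≫ T.hom = Spec.map (CommRingCat.ofHom ((IsLocalRing.residue A).comp (algebraMap k A))) →
        ∃ s : Spec (CommRingCat.of A) ⟶ T.left, s ≫ T.hom = Spec.map (CommRingCat.ofHom (algebraMap k A)) ∧
          Spec.map (CommRingCat.ofHom (IsLocalRing.residue A)) ≫ s = u) :
    ∃ (U : T.left.Opens) (n : ℕ) (Y : (Spec (CommRingCat.of (MvPolynomial (Fin n) k))).Opens)
        (a : (U : Scheme.{u}) ⟶ (Y : Scheme.{u})) (b : (Y : Scheme.{u}) ⟶ (U : Scheme.{u})),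
        (U : Set T.left).Nonempty ∧ a ≫ b = 𝟙 (U : Scheme.{u}) ∧
        a ≫ Y.ι ≫ Spec.map (CommRingCat.ofHom (algebraMap k (MvPolynomial (Fin n) k))) = U.ι ≫ T.hom ∧
        b ≫ U.ι ≫ T.hom = Y.ι ≫ Spec.map (CommRingCat.ofHom (algebraMap k (MvPolynomial (Fin n) k))) := by
  obtain ⟨hA, hL, hI⟩ := domain_facts T hT
  obtain ⟨φ, hφ⟩ := Spec.map_surjective (T.left.isoSpec.inv ≫ T.hom)
  letI : Algebra k Γ(T.left, ⊤) := φ.hom.toAlgebra
  have hφ' : Spec.map (CommRingCat.ofHom (algebraMap k Γ(T.left, ⊤))) = T.left.isoSpec.inv ≫ T.hom := hφ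
  haveI : Algebra.FiniteType k Γ(T.left, ⊤) := by
    have h1 : LocallyOfFiniteType (Spec.map φ) := by rw [hφ]; infer_instance
    rw [HasRingHomProperty.Spec_iff (P := @LocallyOfFiniteType)] at h1
    exact h1
  let Ω := AlgebraicClosure k
  haveI hdΩ : IsDomain (Ω ⊗[k] Γ(T.left, ⊤)) := by
    have sq : IsPullback (Spec.map (CommRingCat.ofHom (Algebra.TensorProduct.includeRight :
          Γ(T.left, ⊤) →ₐ[k] Ω ⊗[k] Γ(T.left, ⊤)).toRingHom) ≫ T.left.isoSpec.inv)
        (Spec.map (CommRingCat.ofHom (algebraMap Ω (Ω ⊗[k] Γ(T.left, ⊤))))) T.hom (geomBase k) :=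
      ((isPullback_SpecMap_of_isPushout _ _ _ _
        (CommRingCat.isPushout_tensorProduct k Ω Γ(T.left, ⊤))).flip).of_iso (Iso.refl _) T.left.isoSpec.symm
        (Iso.refl _) (Iso.refl _) (by simp) (by simp; rfl) (by simp [hφ']) (by simp; rfl)
    haveI := hI
    haveI : Nonempty ↥(Spec (CommRingCat.of (Ω ⊗[k] Γ(T.left, ⊤)))) :=
      ⟨sq.isoPullback.inv (Classical.arbitrary _)⟩
    haveI : IsIntegral (Spec (CommRingCat.of (Ω ⊗[k] Γ(T.left, ⊤)))) :=
      isIntegral_of_isOpenImmersion sq.isoPullback.hom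
    exact (affine_isIntegral_iff (CommRingCat.of (Ω ⊗[k] Γ(T.left, ⊤)))).1 inferInstance
  haveI : IsDomain Γ(T.left, ⊤) := Function.Injective.isDomain
    (Algebra.TensorProduct.includeRight : Γ(T.left, ⊤) →ₐ[k] Ω ⊗[k] Γ(T.left, ⊤)).toRingHom
    (Algebra.TensorProduct.includeRight_injective (algebraMap k Ω).injective)
  obtain ⟨f, n, g, a, b, hf, hab⟩ := exists_retract Γ(T.left, ⊤)
    (isField_tensor_fractionRing Γ(T.left, ⊤)) (fun A _ _ _ _ u => by
      obtain ⟨s, hs, hsu⟩ := h A (Spec.map (CommRingCat.ofHom u.toRingHom) ≫ T.left.isoSpec.inv) (by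
        rw [Category.assoc, ← hφ', ← Spec.map_comp]
        exact congrArg Spec.map (CommRingCat.hom_ext (RingHom.ext fun c => u.commutes c)))
      obtain ⟨σ, hσ⟩ := Spec.map_surjective (s ≫ T.left.isoSpec.hom)
      refine ⟨{ σ.hom with commutes' := fun c => ?_ }, fun x => ?_⟩
      · have e : φ ≫ σ = CommRingCat.ofHom (algebraMap k A) := Spec.map_injective (by
          rw [Spec.map_comp, hσ, hφ, Category.assoc, Iso.hom_inv_id_assoc, hs])
        exact congrArg (fun t : CommRingCat.of k ⟶ CommRingCat.of A => t.hom c) e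
      · have e : σ ≫ CommRingCat.ofHom (IsLocalRing.residue A) = CommRingCat.ofHom u.toRingHom :=
          Spec.map_injective (by
            rw [Spec.map_comp, hσ, ← Category.assoc, hsu, Category.assoc, Iso.inv_hom_id, Category.comp_id])
        exact congrArg (fun t : Γ(T.left, ⊤) ⟶ CommRingCat.of (IsLocalRing.ResidueField A) => t.hom x) e)
  let R := MvPolynomial (Fin n) k
  let jU : Spec (CommRingCat.of (Localization.Away f)) ⟶ T.left :=
    Spec.map (CommRingCat.ofHom (algebraMap Γ(T.left, ⊤) (Localization.Away f))) ≫ T.left.isoSpec.inv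
  let jY : Spec (CommRingCat.of (Localization.Away g)) ⟶ Spec (CommRingCat.of R) :=
    Spec.map (CommRingCat.ofHom (algebraMap R (Localization.Away g)))
  haveI : IsOpenImmersion (Spec.map (CommRingCat.ofHom (algebraMap Γ(T.left, ⊤) (Localization.Away f)))) :=
    IsOpenImmersion.of_isLocalization f
  haveI : IsOpenImmersion jY := IsOpenImmersion.of_isLocalization g
  have hjU : jU ≫ T.hom = Spec.map (CommRingCat.ofHom (algebraMap k (Localization.Away f))) := by
    show (_ ≫ T.left.isoSpec.inv) ≫ T.hom = _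
    rw [Category.assoc, ← hφ', ← Spec.map_comp]
    exact congrArg Spec.map (CommRingCat.hom_ext (IsScalarTower.algebraMap_eq k Γ(T.left, ⊤) (Localization.Away f)).symm)
  have hjY : jY ≫ Spec.map (CommRingCat.ofHom (algebraMap k R)) =
      Spec.map (CommRingCat.ofHom (algebraMap k (Localization.Away g))) := by
    rw [← Spec.map_comp]
    exact congrArg Spec.map (CommRingCat.hom_ext (IsScalarTower.algebraMap_eq k R (Localization.Away g)).symm)
  let A := Spec.map (CommRingCat.ofHom a.toRingHom)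
  let B := Spec.map (CommRingCat.ofHom b.toRingHom)
  have hAB : A ≫ B = 𝟙 _ := by
    rw [← Spec.map_comp, ← Spec.map_id]
    exact congrArg Spec.map (CommRingCat.hom_ext (congrArg AlgHom.toRingHom hab))
  have hA : A ≫ Spec.map (CommRingCat.ofHom (algebraMap k (Localization.Away g))) =
      Spec.map (CommRingCat.ofHom (algebraMap k (Localization.Away f))) := by
    rw [← Spec.map_comp]
    exact congrArg Spec.map (CommRingCat.hom_ext (RingHom.ext fun c => a.commutes c))
  have hB : B ≫ Spec.map (CommRingCat.ofHom (algebraMap k (Localization.Away f))) =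
      Spec.map (CommRingCat.ofHom (algebraMap k (Localization.Away g))) := by
    rw [← Spec.map_comp]
    exact congrArg Spec.map (CommRingCat.hom_ext (RingHom.ext fun c => b.commutes c))
  refine ⟨jU.opensRange, n, jY.opensRange, jU.isoOpensRange.inv ≫ A ≫ jY.isoOpensRange.hom,
    jY.isoOpensRange.inv ≫ B ≫ jU.isoOpensRange.hom, ?_, ?_, ?_, ?_⟩
  · haveI : IsDomain (Localization.Away f) :=
      IsLocalization.isDomain_of_le_nonZeroDivisors _ (powers_le_nonZeroDivisors_of_noZeroDivisors hf)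
    exact ⟨_, ⟨(⊥ : PrimeSpectrum (Localization.Away f)), rfl⟩⟩
  · simp only [Category.assoc, Iso.hom_inv_id_assoc, reassoc_of% hAB, Iso.inv_hom_id]
  · rw [← cancel_epi jU.isoOpensRange.hom]
    simp only [Category.assoc, Iso.hom_inv_id_assoc]
    rw [Scheme.Hom.isoOpensRange_hom_ι_assoc, Scheme.Hom.isoOpensRange_hom_ι_assoc, hjY, hA, hjU]
  · rw [← cancel_epi jY.isoOpensRange.hom]
    simp only [Category.assoc, Iso.hom_inv_id_assoc]
    rw [Scheme.Hom.isoOpensRange_hom_ι_assoc, Scheme.Hom.isoOpensRange_hom_ι_assoc, hjY, hjU, hB]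

end Groth.L24.Retract
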