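import Groth.Agent.L24.Retract.PtsAlg
import Groth.Agent.L24.Retract.Geom
import Mathlib.FieldTheory.Finite.Extension
import Mathlib.RingTheory.TensorProduct.MvPolynomial
import Mathlib.Combinatorics.Nullstellensatz
import Mathlib.RingTheory.Jacobson.Ideal
import Mathlib.LinearAlgebra.TensorProduct.RightExactness

/-!
Lifting points of a retract rational torus along local algebras.
-/

set_option autoImplicit false
set_option backward.isDefEq.respectTransparency false
set_option backward.isDefEq.respectTransparency.types false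

universe u

open CategoryTheory Limits MonoidalCategory CartesianMonoidalCategory MonObj AlgebraicGeometry
open scoped TensorProduct

noncomputable section

namespace Groth.L24.Retract

variable {k : Type u} [Field k]

theorem isDomain_of_torus (T : Over (Spec (CommRingCat.of k))) [GrpObj T]
    (hT : ∃ r : ℕ, TwC.Locally (Spec (CommRingCat.of k)) .finiteEtale
        (fun S' g => Red.IsSplitTorusWith (Fin r → ℤ) (Red.bc g T))) : IsDomain Γ(T.left, ⊤) := by
  obtain ⟨hA, hL, hI⟩ := domain_facts T hT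
  haveI := hA
  haveI := hI
  obtain ⟨φ, hφ⟩ := Spec.map_surjective (T.left.isoSpec.inv ≫ T.hom)
  letI : Algebra k Γ(T.left, ⊤) := φ.hom.toAlgebra
  have hφ' : Spec.map (CommRingCat.ofHom (algebraMap k Γ(T.left, ⊤))) = T.left.isoSpec.inv ≫ T.hom := hφ
  let Ω := AlgebraicClosure k
  haveI hdΩ : IsDomain (Ω ⊗[k] Γ(T.left, ⊤)) := by
    have sq : IsPullback (Spec.map (CommRingCat.ofHom (Algebra.TensorProduct.includeRight :
          Γ(T.left, ⊤) →ₐ[k] Ω ⊗[k] Γ(T.left, ⊤)).toRingHom) ≫ T.left.isoSpec.inv)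
        (Spec.map (CommRingCat.ofHom (algebraMap Ω (Ω ⊗[k] Γ(T.left, ⊤))))) T.hom (geomBase k) :=
      ((isPullback_SpecMap_of_isPushout _ _ _ _
        (CommRingCat.isPushout_tensorProduct k Ω Γ(T.left, ⊤))).flip).of_iso (Iso.refl _) T.left.isoSpec.symm
        (Iso.refl _) (Iso.refl _) (by simp) (by simp; rfl) (by simp [hφ']) (by simp; rfl)
    haveI := hI
    haveI : Nonempty ↥(Spec (CommRingCat.of (Ω ⊗[k] Γ(T.left, ⊤)))) :=
      ⟨sq.isoPullback.inv (Classical.arbitrary _)⟩
    haveI : IsIntegral (Spec (CommRingCat.of (Ω ⊗[k] Γ(T.left, ⊤)))) :=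
      isIntegral_of_isOpenImmersion sq.isoPullback.hom
    exact (affine_isIntegral_iff (CommRingCat.of (Ω ⊗[k] Γ(T.left, ⊤)))).1 inferInstance
  haveI : IsDomain Γ(T.left, ⊤) := Function.Injective.isDomain
    (Algebra.TensorProduct.includeRight : Γ(T.left, ⊤) →ₐ[k] Ω ⊗[k] Γ(T.left, ⊤)).toRingHom
    (Algebra.TensorProduct.includeRight_injective (algebraMap k Ω).injective)
  infer_instance

variable (T : Over (Spec (CommRingCat.of k))) [IsAffine T.left] [Algebra k Γ(T.left, ⊤)]

/-- The algebraic content of a retraction to an open subscheme of affine space. -/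
structure RetractData (n : ℕ) where
  f : Γ(T.left, ⊤)
  h : MvPolynomial (Fin n) k
  β : Γ(T.left, ⊤) →ₐ[k] Localization.Away h
  α : Localization.Away h →ₐ[k] Localization.Away f
  comp_eq : ∀ x, α (β x) = algebraMap Γ(T.left, ⊤) (Localization.Away f) x
  f_ne : f ≠ 0
  h_ne : h ≠ 0

theorem exists_retractData [IsDomain Γ(T.left, ⊤)]
    (hT : Spec.map (CommRingCat.ofHom (algebraMap k Γ(T.left, ⊤))) = T.left.isoSpec.inv ≫ T.hom)
    (U : T.left.Opens) (n : ℕ) (Y : (Spec (CommRingCat.of (MvPolynomial (Fin n) k))).Opens)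
    (a : (U : Scheme.{u}) ⟶ (Y : Scheme.{u})) (b : (Y : Scheme.{u}) ⟶ (U : Scheme.{u}))
    (hne : (U : Set T.left).Nonempty) (hab : a ≫ b = 𝟙 (U : Scheme.{u}))
    (ha : a ≫ Y.ι ≫ Spec.map (CommRingCat.ofHom (algebraMap k (MvPolynomial (Fin n) k))) = U.ι ≫ T.hom)
    (hb : b ≫ U.ι ≫ T.hom = Y.ι ≫ Spec.map (CommRingCat.ofHom (algebraMap k (MvPolynomial (Fin n) k)))) :
    Nonempty (RetractData T n) := by
  obtain ⟨u₀, hu₀⟩ := hne
  let P := Spec (CommRingCat.of (MvPolynomial (Fin n) k))
  let y₀ : P := Y.ι (a ⟨u₀, hu₀⟩)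
  obtain ⟨_, ⟨h, rfl⟩, hy₀, hhY⟩ := PrimeSpectrum.isTopologicalBasis_basic_opens.exists_subset_of_mem_open
    (show y₀ ∈ (Y : Set P) from (a ⟨u₀, hu₀⟩).2) Y.2
  let O : T.left.Opens := U.ι ''ᵁ ((a ≫ Y.ι) ⁻¹ᵁ (PrimeSpectrum.basicOpen h : TopologicalSpace.Opens P))
  have hu₀O : u₀ ∈ O := ⟨⟨u₀, hu₀⟩, hy₀, rfl⟩
  let O' : (Spec Γ(T.left, ⊤)).Opens := T.left.isoSpec.inv ⁻¹ᵁ O
  have hmem : T.left.isoSpec.hom u₀ ∈ O' := by
    show T.left.isoSpec.inv (T.left.isoSpec.hom u₀) ∈ O
    rw [← Scheme.Hom.comp_apply, Iso.hom_inv_id]; exact hu₀O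
  obtain ⟨_, ⟨f, rfl⟩, hfu, hfO⟩ := PrimeSpectrum.isTopologicalBasis_basic_opens.exists_subset_of_mem_open
    hmem O'.2
  let jh : Spec (CommRingCat.of (Localization.Away h)) ⟶ P :=
    Spec.map (CommRingCat.ofHom (algebraMap (MvPolynomial (Fin n) k) (Localization.Away h)))
  haveI : IsOpenImmersion jh := IsOpenImmersion.of_isLocalization h
  have hjh : Set.range jh = ((PrimeSpectrum.basicOpen h : TopologicalSpace.Opens (PrimeSpectrum (MvPolynomial (Fin n) k))) : Set (PrimeSpectrum (MvPolynomial (Fin n) k))) :=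
    PrimeSpectrum.localization_away_comap_range (Localization.Away h) h
  let lY : Spec (CommRingCat.of (Localization.Away h)) ⟶ (Y : Scheme.{u}) :=
    IsOpenImmersion.lift Y.ι jh (by rw [Scheme.Opens.range_ι, hjh]; exact hhY)
  have hlY : lY ≫ Y.ι = jh := IsOpenImmersion.lift_fac _ _ _
  let jf : Spec (CommRingCat.of (Localization.Away f)) ⟶ T.left :=
    Spec.map (CommRingCat.ofHom (algebraMap Γ(T.left, ⊤) (Localization.Away f))) ≫ T.left.isoSpec.inv
  have hjf : ∀ z, jf z ∈ O := fun z => by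
    have : (Spec.map (CommRingCat.ofHom (algebraMap Γ(T.left, ⊤) (Localization.Away f)))) z ∈
        ((PrimeSpectrum.basicOpen f : TopologicalSpace.Opens (PrimeSpectrum Γ(T.left, ⊤))) : Set (PrimeSpectrum Γ(T.left, ⊤))) := by
      rw [← PrimeSpectrum.localization_away_comap_range (Localization.Away f) f]
      exact ⟨z, rfl⟩
    exact hfO this
  let lU : Spec (CommRingCat.of (Localization.Away f)) ⟶ (U : Scheme.{u}) :=
    IsOpenImmersion.lift U.ι jf (by
      rw [Scheme.Opens.range_ι]; rintro - ⟨z, rfl⟩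
      obtain ⟨w, -, e⟩ := hjf z
      rw [← show U.ι w = jf z from e]; exact w.2)
  have hlU : lU ≫ U.ι = jf := IsOpenImmersion.lift_fac _ _ _
  let lh : Spec (CommRingCat.of (Localization.Away f)) ⟶ Spec (CommRingCat.of (Localization.Away h)) :=
    IsOpenImmersion.lift jh (lU ≫ a ≫ Y.ι) (by
      rw [hjh]; rintro - ⟨z, rfl⟩
      obtain ⟨w, hw, e⟩ := hjf z
      have e2 : lU z = w := U.ι.isOpenEmbedding.injective (by rw [← Scheme.Hom.comp_apply, hlU]; exact e.symm)
      show (a ≫ Y.ι) (lU z) ∈ _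
      rw [e2]; exact hw)
  have hlh : lh ≫ jh = lU ≫ a ≫ Y.ι := IsOpenImmersion.lift_fac _ _ _
  have hlh' : lh ≫ lY = lU ≫ a := by rw [← cancel_mono Y.ι, Category.assoc, hlY, hlh, Category.assoc]
  obtain ⟨β, hβ⟩ := Spec.map_surjective (lY ≫ b ≫ U.ι ≫ T.left.isoSpec.hom)
  obtain ⟨α, hα⟩ := Spec.map_surjective lh
  have hjhk : jh ≫ Spec.map (CommRingCat.ofHom (algebraMap k (MvPolynomial (Fin n) k))) =
      Spec.map (CommRingCat.ofHom (algebraMap k (Localization.Away h))) := by
    rw [← Spec.map_comp]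
    exact congrArg Spec.map (CommRingCat.hom_ext (IsScalarTower.algebraMap_eq k _ _).symm)
  have hjfk : jf ≫ T.hom = Spec.map (CommRingCat.ofHom (algebraMap k (Localization.Away f))) := by
    show (_ ≫ _) ≫ T.hom = _
    rw [Category.assoc, ← hT, ← Spec.map_comp]
    exact congrArg Spec.map (CommRingCat.hom_ext (IsScalarTower.algebraMap_eq k _ _).symm)
  have hβk : CommRingCat.ofHom (algebraMap k Γ(T.left, ⊤)) ≫ β =
      CommRingCat.ofHom (algebraMap k (Localization.Away h)) := Spec.map_injective (by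
    rw [Spec.map_comp, hβ, hT]
    simp only [Category.assoc, Iso.hom_inv_id_assoc]
    rw [hb, reassoc_of% hlY, hjhk])
  have hαk : CommRingCat.ofHom (algebraMap k (Localization.Away h)) ≫ α =
      CommRingCat.ofHom (algebraMap k (Localization.Away f)) := Spec.map_injective (by
    rw [Spec.map_comp, hα, ← hjhk, reassoc_of% hlh, ha, reassoc_of% hlU, hjfk])
  have hαβ : β ≫ α = CommRingCat.ofHom (algebraMap Γ(T.left, ⊤) (Localization.Away f)) := Spec.map_injective (by
    rw [Spec.map_comp, hα, hβ, reassoc_of% hlh', reassoc_of% hab, reassoc_of% hlU]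
    show (_ ≫ T.left.isoSpec.inv) ≫ _ = _
    rw [Category.assoc, Iso.inv_hom_id, Category.comp_id])
  refine ⟨⟨f, h, { β.hom with commutes' := fun c => ?_ }, { α.hom with commutes' := fun c => ?_ },
    fun x => ?_, ?_, ?_⟩⟩
  · exact congrArg (fun t : CommRingCat.of k ⟶ CommRingCat.of (Localization.Away h) => t.hom c) hβk
  · exact congrArg (fun t : CommRingCat.of k ⟶ CommRingCat.of (Localization.Away f) => t.hom c) hαk
  · exact congrArg (fun t : Γ(T.left, ⊤) ⟶ CommRingCat.of (Localization.Away f) => t.hom x) hαβ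
  · rintro rfl; simp at hfu
  · rintro rfl; simp at hy₀

variable {T} {n : ℕ} (D : RetractData T n) [GrpObj T]
  (hT : Spec.map (CommRingCat.ofHom (algebraMap k Γ(T.left, ⊤))) = T.left.isoSpec.inv ≫ T.hom)

/-- A point lifts along every surjection with kernel in the Jacobson radical. -/
def Liftable {Q : Type u} [CommRing Q] [Algebra k Q] (x : pt k Q ⟶ T) : Prop :=
  ∀ (B : Type u) [CommRing B] [Algebra k B] (q : B →ₐ[k] Q), Function.Surjective q →
    (RingHom.ker q.toRingHom ≤ Ideal.jacobson ⊥) → ∃ s : pt k B ⟶ T, res q ≫ s = x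

include hT in
theorem liftable_of_isUnit {Q : Type u} [CommRing Q] [Algebra k Q] (x : pt k Q ⟶ T)
    (hx : IsUnit (toAlg T hT x D.f)) : Liftable x := by
  intro B _ _ q hq hker
  let v := toAlg T hT x
  let v' : Localization.Away D.f →+* Q := IsLocalization.Away.lift D.f (g := v.toRingHom) hx
  let c : MvPolynomial (Fin n) k →ₐ[k] Q :=
    { v'.comp (D.α.toRingHom.comp (algebraMap _ (Localization.Away D.h))) with
      commutes' := fun z => by
        show v' (D.α (algebraMap _ (Localization.Away D.h) (algebraMap k _ z))) = _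
        rw [← IsScalarTower.algebraMap_apply, D.α.commutes,
          IsScalarTower.algebraMap_apply k Γ(T.left, ⊤) (Localization.Away D.f), IsLocalization.Away.lift_eq]
        exact v.commutes z }
  let cb : MvPolynomial (Fin n) k →ₐ[k] B := MvPolynomial.aeval fun i => (hq (c (MvPolynomial.X i))).choose
  have hcb : q.comp cb = c := MvPolynomial.algHom_ext fun i => by
    simp only [cb, AlgHom.comp_apply, MvPolynomial.aeval_X]
    exact (hq (c (MvPolynomial.X i))).choose_spec
  have hu : IsUnit (cb D.h) := by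
    have h1 : IsUnit (c D.h) := ((IsLocalization.Away.algebraMap_isUnit D.h).map D.α).map v'
    rw [← hcb] at h1
    haveI : IsLocalHom q.toRingHom := by
      refine ⟨fun b hb => ?_⟩
      obtain ⟨b', hb'⟩ := hq ↑hb.unit⁻¹
      have h2 : b * b' - 1 ∈ RingHom.ker q.toRingHom := by
        show q (b * b' - 1) = 0
        rw [map_sub, map_mul, hb', map_one, sub_eq_zero]
        exact hb.mul_val_inv
      have h3 : IsUnit (b * b') := by
        have := Ideal.mem_jacobson_bot.1 (hker h2) 1
        simpa using this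
      exact isUnit_of_mul_isUnit_left h3
    exact IsUnit.of_map q.toRingHom _ h1
  let γ : Localization.Away D.h →ₐ[k] B := IsLocalization.liftAlgHom (M := Submonoid.powers D.h) (f := cb)
    (fun y => by
      obtain ⟨_, m, rfl⟩ := y
      rw [map_pow]; exact hu.pow m)
  refine ⟨ofAlg T hT (γ.comp D.β), ?_⟩
  rw [← ofAlg_toAlg T hT x, ← ofAlg_toAlg T hT (res q ≫ ofAlg T hT (γ.comp D.β)), toAlg_res, toAlg_ofAlg]
  congr 1
  refine AlgHom.ext fun z => ?_
  have hγ : (q.comp γ).toRingHom = v'.comp D.α.toRingHom := by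
    refine IsLocalization.ringHom_ext (Submonoid.powers D.h) (RingHom.ext fun w => ?_)
    show q (γ (algebraMap _ _ w)) = v' (D.α (algebraMap _ _ w))
    rw [IsLocalization.liftAlgHom_apply, IsLocalization.lift_eq]
    exact AlgHom.congr_fun hcb w
  show q (γ (D.β z)) = v z
  refine (RingHom.congr_fun hγ (D.β z)).trans ?_
  show v' (D.α (D.β z)) = v z
  rw [D.comp_eq, IsLocalization.Away.lift_eq]
  rfl

variable {κ : Type u} [Field κ] [Algebra k κ]

/-- Translation by a point, on coordinates. -/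
def translate (u : pt k κ ⟶ T) : κ ⊗[k] Γ(T.left, ⊤) →ₐ[κ] κ ⊗[k] Γ(T.left, ⊤) :=
  Algebra.TensorProduct.lift (Algebra.ofId κ _)
    (toAlg T hT ((res Algebra.TensorProduct.includeLeft ≫ u) *
      ofAlg T hT Algebra.TensorProduct.includeRight)) fun _ _ => Commute.all _ _

theorem translate_spec (u : pt k κ ⟶ T) :
    ((translate hT u).restrictScalars k).comp Algebra.TensorProduct.includeRight =
      toAlg T hT ((res Algebra.TensorProduct.includeLeft ≫ u) *
        ofAlg T hT Algebra.TensorProduct.includeRight) :=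
  AlgHom.ext fun x => by simp [translate]

theorem translate_left (u : pt k κ ⟶ T) :
    ((translate hT u).restrictScalars k).comp Algebra.TensorProduct.includeLeft =
      Algebra.TensorProduct.includeLeft :=
  AlgHom.ext fun x => by simp [translate, Algebra.TensorProduct.algebraMap_apply]

theorem translate_inv (u : pt k κ ⟶ T) :
    (translate hT u).comp (translate hT u⁻¹) = AlgHom.id κ _ := by
  refine Algebra.TensorProduct.ext (Subsingleton.elim _ _) ?_
  apply AlgHom.ext
  intro x
  have h1 : toAlg T hT (res ((translate hT u).restrictScalars k) ≫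
      ((res Algebra.TensorProduct.includeLeft ≫ u⁻¹) * ofAlg T hT Algebra.TensorProduct.includeRight)) =
      Algebra.TensorProduct.includeRight := by
    have h2 : res ((translate hT u).restrictScalars k) ≫ ofAlg T hT Algebra.TensorProduct.includeRight =
        (res Algebra.TensorProduct.includeLeft ≫ u) * ofAlg T hT Algebra.TensorProduct.includeRight := by
      rw [← ofAlg_toAlg T hT (res _ ≫ ofAlg T hT _), toAlg_res, toAlg_ofAlg, translate_spec, ofAlg_toAlg]
    rw [MonObj.comp_mul, ← Category.assoc, ← res_comp, translate_left, h2, ← _root_.mul_assoc,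
      ← MonObj.comp_mul, inv_mul_cancel, MonObj.comp_one, _root_.one_mul, toAlg_ofAlg]
  rw [toAlg_res, ← translate_spec] at h1
  exact AlgHom.congr_fun h1 x

theorem translate_injective (u : pt k κ ⟶ T) : Function.Injective (translate hT u) := by
  have h := translate_inv hT u⁻¹
  rw [inv_inv] at h
  exact Function.LeftInverse.injective (g := translate hT u⁻¹) fun z => AlgHom.congr_fun h z

theorem exists_num (h : MvPolynomial (Fin n) k) (z : κ ⊗[k] Localization.Away h) :
    ∃ (N : ℕ) (w : κ ⊗[k] MvPolynomial (Fin n) k), (1 ⊗ₜ algebraMap _ (Localization.Away h) h) ^ N * z =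
      Algebra.TensorProduct.map (AlgHom.id κ κ) (IsScalarTower.toAlgHom k _ (Localization.Away h)) w := by
  induction z using TensorProduct.induction_on with
  | zero => exact ⟨0, 0, by simp⟩
  | tmul a b =>
    obtain ⟨N, w, hw⟩ := IsLocalization.Away.surj h b
    refine ⟨N, a ⊗ₜ w, ?_⟩
    rw [Algebra.TensorProduct.tmul_pow, one_pow, Algebra.TensorProduct.tmul_mul_tmul, _root_.one_mul, _root_.mul_comm, hw]
    rfl
  | add x y hx hy =>
    obtain ⟨N, w, hw⟩ := hx
    obtain ⟨N', w', hw'⟩ := hy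
    refine ⟨N + N', (1 ⊗ₜ h) ^ N' * w + (1 ⊗ₜ h) ^ N * w', ?_⟩
    rw [map_add, map_mul, map_mul, map_pow, map_pow, ← hw, ← hw', Algebra.TensorProduct.map_tmul,
      AlgHom.id_apply, IsScalarTower.coe_toAlgHom']
    ring

include D hT in
theorem exists_good_poly [IsDomain Γ(T.left, ⊤)] (u : pt k κ ⟶ T) :
    ∃ g : MvPolynomial (Fin n) κ, g ≠ 0 ∧ ∀ (Q : Type u) [CommRing Q] [Algebra k Q] [Algebra κ Q]
      [IsScalarTower k κ Q] (c : Fin n → Q), IsUnit (MvPolynomial.aeval c g) →
      ∃ w : pt k Q ⟶ T, Liftable w ∧ Liftable ((res (IsScalarTower.toAlgHom k κ Q) ≫ u) * w) := by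
  classical
  let E := κ ⊗[k] Γ(T.left, ⊤)
  let Bβ : E →ₐ[κ] κ ⊗[k] Localization.Away D.h := Algebra.TensorProduct.map (AlgHom.id κ κ) D.β
  have hβinj : Function.Injective D.β := by
    intro x y e
    have e2 := congrArg D.α e
    rw [D.comp_eq, D.comp_eq] at e2
    exact IsLocalization.injective (Localization.Away D.f)
      (powers_le_nonZeroDivisors_of_noZeroDivisors D.f_ne) e2
  have hB : Function.Injective Bβ := Module.Flat.lTensor_preserves_injective_linearMap D.β.toLinearMap hβinj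
  have hincl : Function.Injective (Algebra.TensorProduct.includeRight : Γ(T.left, ⊤) →ₐ[k] E) :=
    Algebra.TensorProduct.includeRight_injective (algebraMap k κ).injective
  let z₁ := Bβ (1 ⊗ₜ D.f)
  let z₂ := Bβ (translate hT u (1 ⊗ₜ D.f))
  have hz₁ : z₁ ≠ 0 := fun e => D.f_ne (hincl ((hB (e.trans (map_zero Bβ).symm)).trans (map_zero _).symm))
  have hz₂ : z₂ ≠ 0 := fun e => D.f_ne (hincl
    ((translate_injective hT u ((hB (e.trans (map_zero Bβ).symm)).trans (map_zero _).symm)).trans (map_zero _).symm))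
  obtain ⟨N₁, w₁, hw₁⟩ := exists_num D.h z₁
  obtain ⟨N₂, w₂, hw₂⟩ := exists_num D.h z₂
  let Φ : κ ⊗[k] MvPolynomial (Fin n) k ≃ₐ[κ] MvPolynomial (Fin n) κ := MvPolynomial.algebraTensorAlgEquiv k κ
  have hunit : IsUnit ((1 : κ) ⊗ₜ[k] algebraMap _ (Localization.Away D.h) D.h) :=
    (IsLocalization.Away.algebraMap_isUnit D.h).map Algebra.TensorProduct.includeRight
  have hw₁0 : Φ w₁ ≠ 0 := fun e => by
    rw [(map_eq_zero_iff _ Φ.injective).1 e, map_zero] at hw₁
    exact hz₁ ((hunit.pow N₁).mul_right_eq_zero.1 hw₁)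
  have hw₂0 : Φ w₂ ≠ 0 := fun e => by
    rw [(map_eq_zero_iff _ Φ.injective).1 e, map_zero] at hw₂
    exact hz₂ ((hunit.pow N₂).mul_right_eq_zero.1 hw₂)
  have hh0 : MvPolynomial.map (algebraMap k κ) D.h ≠ 0 := fun e =>
    D.h_ne (MvPolynomial.map_injective _ (algebraMap k κ).injective (e.trans (map_zero _).symm))
  refine ⟨MvPolynomial.map (algebraMap k κ) D.h * Φ w₁ * Φ w₂, mul_ne_zero (mul_ne_zero hh0 hw₁0) hw₂0, ?_⟩
  intro Q _ _ _ _ c hc
  rw [map_mul, map_mul] at hc
  obtain ⟨hc12, hcw₂⟩ := IsUnit.mul_iff.1 hc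
  obtain ⟨hch, hcw₁⟩ := IsUnit.mul_iff.1 hc12
  rw [MvPolynomial.aeval_map_algebraMap] at hch
  let ε : Localization.Away D.h →ₐ[k] Q := IsLocalization.liftAlgHom (M := Submonoid.powers D.h)
    (f := MvPolynomial.aeval c) (fun y => by
      obtain ⟨_, m, rfl⟩ := y
      rw [map_pow]; exact hch.pow m)
  let ev : κ ⊗[k] Localization.Away D.h →ₐ[κ] Q :=
    Algebra.TensorProduct.lift (Algebra.ofId κ Q) ε fun _ _ => Commute.all _ _
  have hev : ∀ w, ev (Algebra.TensorProduct.map (AlgHom.id κ κ) (IsScalarTower.toAlgHom k _ (Localization.Away D.h)) w) =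
      MvPolynomial.aeval c (Φ w) := by
    intro w
    refine AlgHom.congr_fun (?_ : ev.comp (Algebra.TensorProduct.map (AlgHom.id κ κ)
      (IsScalarTower.toAlgHom k _ (Localization.Away D.h))) = (MvPolynomial.aeval c).comp Φ.toAlgHom) w
    refine Algebra.TensorProduct.ext (Subsingleton.elim _ _) (MvPolynomial.algHom_ext fun i => ?_)
    simp [ev, ε, Φ, IsLocalization.liftAlgHom_apply, IsLocalization.lift_eq]
  have hevz : ∀ {N : ℕ} {z w}, ((1 : κ) ⊗ₜ[k] algebraMap _ (Localization.Away D.h) D.h) ^ N * z =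
      Algebra.TensorProduct.map (AlgHom.id κ κ) (IsScalarTower.toAlgHom k _ (Localization.Away D.h)) w →
      IsUnit (MvPolynomial.aeval c (Φ w)) → IsUnit (ev z) := by
    intro N z w hzw hu
    have e := congrArg ev hzw
    rw [map_mul, hev] at e
    rw [← e] at hu
    exact isUnit_of_mul_isUnit_right hu
  let w : pt k Q ⟶ T := ofAlg T hT (ε.comp D.β)
  refine ⟨w, liftable_of_isUnit D hT w ?_, liftable_of_isUnit D hT _ ?_⟩
  · have h := hevz hw₁ hcw₁
    rw [toAlg_ofAlg]
    have e0 : ev z₁ = algebraMap κ Q 1 * ε (D.β D.f) := rfl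
    rwa [e0, map_one, _root_.one_mul] at h
  · have h := hevz hw₂ hcw₂
    let ev' : E →ₐ[k] Q := (ev.comp Bβ).restrictScalars k
    have e1 : ev'.comp Algebra.TensorProduct.includeLeft = IsScalarTower.toAlgHom k κ Q :=
      AlgHom.ext fun a => by
        show algebraMap κ Q a * ε (D.β 1) = algebraMap κ Q a
        rw [map_one, map_one, _root_.mul_one]
    have e2 : ev'.comp Algebra.TensorProduct.includeRight = ε.comp D.β :=
      AlgHom.ext fun a => by
        show algebraMap κ Q 1 * ε (D.β a) = ε (D.β a)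
        rw [map_one, _root_.one_mul]
    have e : toAlg T hT ((res (IsScalarTower.toAlgHom k κ Q) ≫ u) * w) =
        ev'.comp (toAlg T hT ((res Algebra.TensorProduct.includeLeft ≫ u) *
          ofAlg T hT Algebra.TensorProduct.includeRight)) := by
      rw [← toAlg_res, MonObj.comp_mul, ← Category.assoc, ← res_comp, e1]
      congr 2
      rw [← ofAlg_toAlg T hT (res ev' ≫ _), toAlg_res, toAlg_ofAlg, e2]
    rw [e, ← translate_spec]
    exact h

theorem exists_point_finite {Q : Type u} [CommRing Q] [Algebra κ Q] [Finite (MaximalSpectrum Q)]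
    (g : MvPolynomial (Fin n) κ) (hg : g ≠ 0)
    (hbig : ∀ m : MaximalSpectrum Q, ∃ s : Finset (Q ⧸ m.asIdeal), g.totalDegree < s.card) :
    ∃ c : Fin n → Q, IsUnit (MvPolynomial.aeval c g) := by
  classical
  have hex : ∀ m : MaximalSpectrum Q, ∃ c : Fin n → Q ⧸ m.asIdeal, MvPolynomial.aeval c g ≠ 0 := by
    intro m
    haveI := m.isMaximal
    letI : Field (Q ⧸ m.asIdeal) := Ideal.Quotient.field _
    obtain ⟨s, hs⟩ := hbig m
    by_contra! hc
    apply hg
    have h0 := MvPolynomial.eq_zero_of_eval_zero_at_prod_finset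
      (MvPolynomial.map (algebraMap κ (Q ⧸ m.asIdeal)) g) (fun _ => s) (fun i => by
        refine lt_of_le_of_lt ((MvPolynomial.degreeOf_le_totalDegree _ _).trans ?_) hs
        exact Finset.sup_mono (MvPolynomial.support_map_subset _ _)) (fun x _ => by
        rw [MvPolynomial.eval_map]; exact hc x)
    exact MvPolynomial.map_injective _ (algebraMap κ (Q ⧸ m.asIdeal)).injective (h0.trans (map_zero _).symm)
  choose c hc using hex
  have hcop : Pairwise fun i j : MaximalSpectrum Q => IsCoprime i.asIdeal j.asIdeal := fun i j hij =>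
    Ideal.isCoprime_iff_sup_eq.2 (i.isMaximal.coprime_of_ne j.isMaximal fun e => hij (MaximalSpectrum.ext e))
  choose C hC using fun i : Fin n => Ideal.pi_quotient_surjective hcop (fun m => c m i)
  refine ⟨C, ?_⟩
  by_contra hu
  obtain ⟨m, hm, hmem⟩ := exists_max_ideal_of_mem_nonunits hu
  refine hc ⟨m, hm⟩ ?_
  have e : c ⟨m, hm⟩ = fun i => Ideal.Quotient.mkₐ κ m (C i) := funext fun i => (hC i ⟨m, hm⟩).symm
  rw [e, ← MvPolynomial.comp_aeval, AlgHom.comp_apply, Ideal.Quotient.mkₐ_eq_mk]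
  exact Ideal.Quotient.eq_zero_iff_mem.2 hmem

end Groth.L24.Retract
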