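import Groth.Agent.L24.Retract.Lift
import Mathlib.FieldTheory.Galois.Basic
import Mathlib.RingTheory.LocalRing.ResidueField.Basic

/-!
Retract rational tori have the lifting property for all local algebras.
-/

set_option autoImplicit false
set_option backward.isDefEq.respectTransparency false
set_option backward.isDefEq.respectTransparency.types false

universe u

open CategoryTheory Limits MonoidalCategory CartesianMonoidalCategory MonObj AlgebraicGeometry
open scoped TensorProduct

noncomputable section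

namespace Groth.L24.Retract

variable {k : Type u} [Field k]

theorem mem_range_of_fixed (A : Type u) [CommRing A] [Algebra k A] (L : Type) [Field L] [Algebra k L]
    [FiniteDimensional k L] [IsGalois k L] (z : A ⊗[k] L)
    (hz : ∀ σ : L ≃ₐ[k] L, Algebra.TensorProduct.map (AlgHom.id k A) σ.toAlgHom z = z) :
    ∃ a : A, a ⊗ₜ[k] (1 : L) = z := by
  classical
  let b := Module.Free.chooseBasis k A
  let e := TensorProduct.equivFinsuppOfBasisLeft (N := L) b
  have hσ : ∀ (σ : L ≃ₐ[k] L) (w : A ⊗[k] L) i,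
      e (Algebra.TensorProduct.map (AlgHom.id k A) σ.toAlgHom w) i = σ (e w i) := by
    intro σ w i
    induction w using TensorProduct.induction_on with
    | zero => simp
    | tmul a l => simp [e, TensorProduct.equivFinsuppOfBasisLeft_apply_tmul_apply]
    | add x y hx hy => simp [map_add, hx, hy]
  have hfix : ∀ i, ∃ c : k, algebraMap k L c = e z i := fun i => by
    obtain ⟨c, hc⟩ := IntermediateField.mem_bot.1 ((IsGalois.mem_bot_iff_fixed (e z i)).2 fun σ => by
      rw [← hσ, hz])
    exact ⟨c, hc⟩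
  choose c hc using hfix
  refine ⟨(e z).sum fun i _ => c i • b i, ?_⟩
  conv_rhs => rw [← e.symm_apply_apply z]
  rw [TensorProduct.equivFinsuppOfBasisLeft_symm_apply, Finsupp.sum, Finsupp.sum, TensorProduct.sum_tmul]
  refine Finset.sum_congr rfl fun i _ => ?_
  rw [TensorProduct.smul_tmul, ← hc i, Algebra.algebraMap_eq_smul_one]

theorem exists_lift_of_retract (T : Over (Spec (CommRingCat.of k))) [GrpObj T]
    (hT : ∃ r : ℕ, TwC.Locally (Spec (CommRingCat.of k)) .finiteEtale
        (fun S' g => Red.IsSplitTorusWith (Fin r → ℤ) (Red.bc g T)))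
    (hret : ∃ (U : T.left.Opens) (n : ℕ) (Y : (Spec (CommRingCat.of (MvPolynomial (Fin n) k))).Opens)
        (a : (U : Scheme.{u}) ⟶ (Y : Scheme.{u})) (b : (Y : Scheme.{u}) ⟶ (U : Scheme.{u})),
        (U : Set T.left).Nonempty ∧ a ≫ b = 𝟙 (U : Scheme.{u}) ∧
        a ≫ Y.ι ≫ Spec.map (CommRingCat.ofHom (algebraMap k (MvPolynomial (Fin n) k))) = U.ι ≫ T.hom ∧
        b ≫ U.ι ≫ T.hom = Y.ι ≫ Spec.map (CommRingCat.ofHom (algebraMap k (MvPolynomial (Fin n) k))))
    (A : Type u) [CommRing A] [IsLocalRing A] [Algebra k A]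
    (x : pt k (IsLocalRing.ResidueField A) ⟶ T) :
    ∃ s : pt k A ⟶ T, res (IsScalarTower.toAlgHom k A (IsLocalRing.ResidueField A)) ≫ s = x := by
  classical
  obtain ⟨U, n₀, Y, a, b, hne, hab, ha, hb⟩ := hret
  haveI : IsAffine T.left := (domain_facts T hT).1
  haveI : IsDomain Γ(T.left, ⊤) := isDomain_of_torus T hT
  obtain ⟨φ, hφ⟩ := Spec.map_surjective (T.left.isoSpec.inv ≫ T.hom)
  letI : Algebra k Γ(T.left, ⊤) := φ.hom.toAlgebra
  have hT' : Spec.map (CommRingCat.ofHom (algebraMap k Γ(T.left, ⊤))) = T.left.isoSpec.inv ≫ T.hom := hφ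
  obtain ⟨D⟩ := exists_retractData T hT' U n₀ Y a b hne hab ha hb
  let κ := IsLocalRing.ResidueField A
  let q₀ : A →ₐ[k] κ := IsScalarTower.toAlgHom k A κ
  have hq₀ : Function.Surjective q₀ := IsLocalRing.residue_surjective
  have hker₀ : RingHom.ker q₀.toRingHom = IsLocalRing.maximalIdeal A := IsLocalRing.ker_residue
  obtain ⟨g, hg, hgood⟩ := exists_good_poly D hT' x
  rcases finite_or_infinite κ with hfin | hinf
  swap
  · haveI : Finite (MaximalSpectrum κ) :=
      Finite.of_injective (fun _ => PUnit.unit.{1}) fun m m' _ => MaximalSpectrum.ext (by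
        rw [(Ideal.eq_bot_or_top m.asIdeal).resolve_right m.isMaximal.ne_top,
          (Ideal.eq_bot_or_top m'.asIdeal).resolve_right m'.isMaximal.ne_top])
    obtain ⟨c, hc⟩ := exists_point_finite (Q := κ) g hg (fun m => by
      haveI := m.isMaximal
      letI : Field (κ ⧸ m.asIdeal) := Ideal.Quotient.field _
      haveI : Infinite (κ ⧸ m.asIdeal) := Infinite.of_injective _ (algebraMap κ (κ ⧸ m.asIdeal)).injective
      obtain ⟨s, hs⟩ := Infinite.exists_subset_card_eq (κ ⧸ m.asIdeal) (g.totalDegree + 1)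
      exact ⟨s, by omega⟩)
    obtain ⟨w, hw, hw'⟩ := hgood κ c hc
    have hj : RingHom.ker q₀.toRingHom ≤ Ideal.jacobson ⊥ := by
      rw [hker₀, IsLocalRing.jacobson_eq_maximalIdeal ⊥ bot_ne_top]
    obtain ⟨s₁, hs₁⟩ := hw A q₀ hq₀ hj
    obtain ⟨s₂, hs₂⟩ := hw' A q₀ hq₀ hj
    refine ⟨s₂ * s₁⁻¹, ?_⟩
    rw [MonObj.comp_mul, GrpObj.comp_inv, hs₁, hs₂, mul_inv_cancel_right,
      show IsScalarTower.toAlgHom k κ κ = AlgHom.id k κ from AlgHom.ext fun _ => rfl, res_id, Category.id_comp]
  · haveI : Finite k := Finite.of_injective _ (algebraMap k κ).injective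
    obtain ⟨p, hp⟩ := CharP.exists k
    haveI := hp
    haveI : Fact p.Prime := ⟨CharP.char_is_prime k p⟩
    have key : ∀ n : ℕ, g.totalDegree < n → ∃ s : pt k A ⟶ T, res q₀ ≫ s = x ^ n := by
      intro n hn
      haveI : NeZero n := ⟨by omega⟩
      let L := FiniteField.Extension k p n
      let Q := κ ⊗[k] L
      let B := A ⊗[k] L
      let qB : B →ₐ[k] Q := Algebra.TensorProduct.map q₀ (AlgHom.id k L)
      have hqB : Function.Surjective qB :=
        Algebra.TensorProduct.map_surjective _ _ hq₀ Function.surjective_id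
      haveI : Finite Q := Module.finite_of_finite κ
      haveI : Finite (MaximalSpectrum Q) := Finite.of_injective (fun m => (m.asIdeal : Set Q))
        fun m m' h => MaximalSpectrum.ext (SetLike.coe_injective h)
      obtain ⟨c, hc⟩ := exists_point_finite (Q := Q) g hg (fun m => by
        haveI := m.isMaximal
        letI : Field (Q ⧸ m.asIdeal) := Ideal.Quotient.field _
        haveI : Finite (Q ⧸ m.asIdeal) := Finite.of_surjective _ (Ideal.Quotient.mk_surjective (I := m.asIdeal))
        haveI : Fintype (Q ⧸ m.asIdeal) := Fintype.ofFinite _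
        let j : L →+* Q ⧸ m.asIdeal :=
          (Ideal.Quotient.mk m.asIdeal).comp (Algebra.TensorProduct.includeRight : L →ₐ[k] Q).toRingHom
        refine ⟨Finset.univ, ?_⟩
        rw [Finset.card_univ, Fintype.card_eq_nat_card]
        calc g.totalDegree < n := hn
          _ < 2 ^ n := n.lt_two_pow_self
          _ ≤ Nat.card k ^ n := Nat.pow_le_pow_left Finite.one_lt_card n
          _ = Nat.card L := (FiniteField.natCard_extension k p n).symm
          _ ≤ Nat.card (Q ⧸ m.asIdeal) := Nat.card_le_card_of_injective j j.injective)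
      obtain ⟨w, hw, hw'⟩ := hgood Q c hc
      haveI : Module.Finite A B := inferInstance
      haveI : Algebra.IsIntegral A B := Algebra.IsIntegral.of_finite A B
      have hj : RingHom.ker qB.toRingHom ≤ Ideal.jacobson ⊥ := by
        have h1 : RingHom.ker qB = (RingHom.ker q₀).map (Algebra.TensorProduct.includeLeft : A →ₐ[k] B) :=
          Algebra.TensorProduct.rTensor_ker _ hq₀
        refine le_sInf fun M hM => ?_
        haveI : M.IsMaximal := hM.2
        show RingHom.ker qB ≤ M
        rw [h1, Ideal.map_le_iff_le_comap]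
        have h2 : (M.comap (algebraMap A B)).IsMaximal :=
          Ideal.isMaximal_comap_of_isIntegral_of_isMaximal M
        show RingHom.ker q₀.toRingHom ≤ M.comap (algebraMap A B)
        rw [hker₀, ← IsLocalRing.eq_maximalIdeal h2]
      obtain ⟨s₁, hs₁⟩ := hw B qB hqB hj
      obtain ⟨s₂, hs₂⟩ := hw' B qB hqB hj
      let jQ : κ →ₐ[k] Q := IsScalarTower.toAlgHom k κ Q
      have hs' : res qB ≫ (s₂ * s₁⁻¹) = res jQ ≫ x := by
        rw [MonObj.comp_mul, GrpObj.comp_inv, hs₁, hs₂, mul_inv_cancel_right]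
      letI : CommGroup (pt k B ⟶ T) := { (inferInstance : Group (pt k B ⟶ T)) with
        mul_comm := mul_comm_of_torus T hT B }
      letI : CommGroup (pt k Q ⟶ T) := { (inferInstance : Group (pt k Q ⟶ T)) with
        mul_comm := mul_comm_of_torus T hT Q }
      let σB : (L ≃ₐ[k] L) → (B →ₐ[k] B) := fun σ => Algebra.TensorProduct.map (AlgHom.id k A) σ.toAlgHom
      let σQ : (L ≃ₐ[k] L) → (Q →ₐ[k] Q) := fun σ => Algebra.TensorProduct.map (AlgHom.id k κ) σ.toAlgHom
      let N : pt k B ⟶ T := ∏ σ : L ≃ₐ[k] L, res (σB σ) ≫ (s₂ * s₁⁻¹)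
      let pre {R R' : Type u} [CommRing R] [Algebra k R] [CommRing R'] [Algebra k R'] (f : R →ₐ[k] R') :
          (pt k R ⟶ T) →* (pt k R' ⟶ T) :=
        { toFun := fun y => res f ≫ y, map_one' := MonObj.comp_one _,
          map_mul' := fun y y' => MonObj.comp_mul _ _ _ }
      have hσmul : ∀ τ σ : L ≃ₐ[k] L, (σB τ).comp (σB σ) = σB (τ * σ) := fun τ σ =>
        Algebra.TensorProduct.ext (AlgHom.ext fun a => rfl) (AlgHom.ext fun a => rfl)
      have hN : ∀ τ, res (σB τ) ≫ N = N := by
        intro τ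
        calc res (σB τ) ≫ N = ∏ σ : L ≃ₐ[k] L, res (σB τ) ≫ res (σB σ) ≫ (s₂ * s₁⁻¹) :=
              map_prod (pre (σB τ)) _ _
          _ = ∏ σ : L ≃ₐ[k] L, res (σB (τ * σ)) ≫ (s₂ * s₁⁻¹) := Finset.prod_congr rfl fun σ _ => by
              rw [← Category.assoc, ← res_comp, hσmul]
          _ = N := Fintype.prod_equiv (Equiv.mulLeft τ) _ _ fun σ => rfl
      let iA : A →ₐ[k] B := Algebra.TensorProduct.includeLeft
      have hfix : ∀ z, ∃ a : A, iA a = toAlg T hT' N z := fun z =>
        mem_range_of_fixed A L (toAlg T hT' N z) fun τ => by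
          have e := congrArg (toAlg T hT') (hN τ)
          rw [toAlg_res] at e
          exact AlgHom.congr_fun e z
      choose ψ hψ using hfix
      have hiA : Function.Injective iA :=
        Algebra.TensorProduct.includeLeft_injective (algebraMap k L).injective
      let ψ' : Γ(T.left, ⊤) →ₐ[k] A :=
        { toFun := ψ
          map_one' := hiA (by rw [hψ, map_one, map_one])
          map_mul' := fun y z => hiA (by rw [hψ, map_mul, map_mul, hψ, hψ])
          map_zero' := hiA (by rw [hψ, map_zero, map_zero])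
          map_add' := fun y z => hiA (by rw [hψ, map_add, map_add, hψ, hψ])
          commutes' := fun c => hiA (by rw [hψ, AlgHom.commutes, AlgHom.commutes]) }
      refine ⟨ofAlg T hT' ψ', ?_⟩
      have e1 : res iA ≫ ofAlg T hT' ψ' = N := by
        rw [← ofAlg_toAlg T hT' N, ← ofAlg_toAlg T hT' (res iA ≫ _), toAlg_res, toAlg_ofAlg]
        congr 1
        exact AlgHom.ext hψ
      have hjQ : Function.Injective jQ :=
        Algebra.TensorProduct.includeLeft_injective (algebraMap k L).injective
      apply eq_of_res jQ hjQ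
      have e2 : res qB ≫ res iA = res jQ ≫ res q₀ := by
        rw [← res_comp, ← res_comp]
        congr 1
      rw [← Category.assoc, ← e2, Category.assoc, e1]
      have hσqB : ∀ σ, qB.comp (σB σ) = (σQ σ).comp qB := fun σ =>
        Algebra.TensorProduct.ext (AlgHom.ext fun a => rfl) (AlgHom.ext fun a => rfl)
      calc res qB ≫ N = ∏ σ : L ≃ₐ[k] L, res qB ≫ res (σB σ) ≫ (s₂ * s₁⁻¹) := map_prod (pre qB) _ _
        _ = ∏ _σ : L ≃ₐ[k] L, res jQ ≫ x := Finset.prod_congr rfl fun σ _ => by
            rw [← Category.assoc, ← res_comp, hσqB, res_comp, Category.assoc, hs', ← Category.assoc, ← res_comp]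
            congr 2
            exact AlgHom.ext fun a => by
              show Algebra.TensorProduct.map (AlgHom.id k κ) σ.toAlgHom (a ⊗ₜ (1 : L)) = a ⊗ₜ (1 : L)
              simp
        _ = (res jQ ≫ x) ^ n := by
            rw [Finset.prod_const, Finset.card_univ, FiniteField.card_algEquiv_extension]
        _ = res jQ ≫ x ^ n := (map_pow (pre jQ) x n).symm
    obtain ⟨s₁, hs₁⟩ := key (g.totalDegree + 1) (by omega)
    obtain ⟨s₂, hs₂⟩ := key (g.totalDegree + 2) (by omega)
    refine ⟨s₁⁻¹ * s₂, ?_⟩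
    rw [MonObj.comp_mul, GrpObj.comp_inv, hs₁, hs₂, pow_succ x (g.totalDegree + 1), inv_mul_cancel_left]

end Groth.L24.Retract
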