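import Groth.Agent.L24.Retract.Torus
import Mathlib.AlgebraicGeometry.Group.Smooth
import Mathlib.RingTheory.Flat.Basic
import Mathlib.RingTheory.Bialgebra.MonoidAlgebra

/-!
Points of a group scheme over a field with values in algebras.
-/

set_option autoImplicit false
set_option backward.isDefEq.respectTransparency false
set_option backward.isDefEq.respectTransparency.types false

universe u

open CategoryTheory Limits MonoidalCategory CartesianMonoidalCategory MonObj AlgebraicGeometry

noncomputable section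

namespace Groth.L24.Retract

variable (k : Type u) [Field k]

/-- `Spec R` over `Spec k`. -/
abbrev pt (R : Type u) [CommRing R] [Algebra k R] : Over (Spec (CommRingCat.of k)) :=
  Over.mk (Spec.map (CommRingCat.ofHom (algebraMap k R)))

variable {k}

/-- The morphism of spectra over `k` given by an algebra map. -/
def res {R R' : Type u} [CommRing R] [Algebra k R] [CommRing R'] [Algebra k R'] (φ : R →ₐ[k] R') :
    pt k R' ⟶ pt k R :=
  Over.homMk (Spec.map (CommRingCat.ofHom φ.toRingHom)) (by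
    show _ ≫ Spec.map _ = Spec.map _
    rw [← Spec.map_comp]
    exact congrArg Spec.map (congrArg CommRingCat.ofHom φ.comp_algebraMap))

theorem res_comp {R R' R'' : Type u} [CommRing R] [Algebra k R] [CommRing R'] [Algebra k R']
    [CommRing R''] [Algebra k R''] (φ : R →ₐ[k] R') (ψ : R' →ₐ[k] R'') :
    res (ψ.comp φ) = res ψ ≫ res φ :=
  Over.OverMorphism.ext (by
    show Spec.map _ = Spec.map _ ≫ Spec.map _
    rw [← Spec.map_comp]; rfl)

theorem res_id (R : Type u) [CommRing R] [Algebra k R] : res (AlgHom.id k R) = 𝟙 (pt k R) :=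
  Over.OverMorphism.ext (Spec.map_id _)

theorem eq_of_res {T : Over (Spec (CommRingCat.of k))} [IsAffine T.left] {R R' : Type u}
    [CommRing R] [Algebra k R] [CommRing R'] [Algebra k R'] (φ : R →ₐ[k] R')
    (hφ : Function.Injective φ) {x y : pt k R ⟶ T} (h : res φ ≫ x = res φ ≫ y) : x = y := by
  have h' : Spec.map (CommRingCat.ofHom φ.toRingHom) ≫ x.left = Spec.map (CommRingCat.ofHom φ.toRingHom) ≫ y.left :=
    congrArg (fun f => CommaMorphism.left f) h
  refine Over.OverMorphism.ext ((cancel_mono T.left.isoSpec.hom).1 ?_)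
  obtain ⟨a, ha⟩ := Spec.map_surjective (x.left ≫ T.left.isoSpec.hom)
  obtain ⟨b, hb⟩ := Spec.map_surjective (y.left ≫ T.left.isoSpec.hom)
  rw [← ha, ← hb]
  refine congrArg Spec.map (CommRingCat.hom_ext (RingHom.ext fun z => hφ ?_))
  have e : a ≫ CommRingCat.ofHom φ.toRingHom = b ≫ CommRingCat.ofHom φ.toRingHom := Spec.map_injective (by
    rw [Spec.map_comp, Spec.map_comp, ha, hb, reassoc_of% h'])
  exact congrArg (fun t : Γ(T.left, ⊤) ⟶ CommRingCat.of R' => t.hom z) e

theorem mul_comm_of_mono {C : Type*} [Category C] [CartesianMonoidalCategory C] [BraidedCategory C]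
    {Y G H : C} [GrpObj G] [GrpObj H] [IsCommMonObj H] (e : G ⟶ H) [IsMonHom e] [Mono e] (a b : Y ⟶ G) :
    a * b = b * a := by
  rw [← cancel_mono e, MonObj.mul_comp, MonObj.mul_comp]
  letI : CommMonoid (Y ⟶ H) := Hom.commMonoid
  exact mul_comm _ _

theorem mul_comm_of_torus (T : Over (Spec (CommRingCat.of k))) [GrpObj T]
    (hT : ∃ r : ℕ, TwC.Locally (Spec (CommRingCat.of k)) .finiteEtale
        (fun S' g => Red.IsSplitTorusWith (Fin r → ℤ) (Red.bc g T)))
    (R : Type u) [CommRing R] [Algebra k R] (x y : pt k R ⟶ T) : x * y = y * x := by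
  haveI : IsAffine T.left := (domain_facts T hT).1
  obtain ⟨r, S', f, hf, hf', hfs, hloc⟩ := hT
  obtain ⟨s', -⟩ := f.surjective (IsLocalRing.closedPoint k)
  obtain ⟨U, hs', -, ⟨eU⟩⟩ := hloc s'
  let g : (U : Scheme.{u}) ⟶ Spec (CommRingCat.of k) := U.ι ≫ f
  let z : (U : Scheme.{u}) := ⟨s', hs'⟩
  let L := (U : Scheme.{u}).residueField z
  let p : Spec (CommRingCat.of L) ⟶ (U : Scheme.{u}) := (U : Scheme.{u}).fromSpecResidueField z
  obtain ⟨φ, hφ⟩ := Spec.map_surjective (p ≫ g)
  letI : Algebra k L := φ.hom.toAlgebra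
  let R' := TensorProduct k R L
  let iR : R →ₐ[k] R' := Algebra.TensorProduct.includeLeft
  have hinj : Function.Injective iR := Algebra.TensorProduct.includeLeft_injective (algebraMap k L).injective
  let q : Spec (CommRingCat.of R') ⟶ (U : Scheme.{u}) :=
    Spec.map (CommRingCat.ofHom (Algebra.TensorProduct.includeRight : L →ₐ[k] R').toRingHom) ≫ p
  have hq : q ≫ g = Spec.map (CommRingCat.ofHom (algebraMap k R')) := by
    show (_ ≫ p) ≫ g = _
    rw [Category.assoc, ← hφ, ← Spec.map_comp]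
    exact congrArg Spec.map (CommRingCat.hom_ext
      ((Algebra.TensorProduct.includeRight : L →ₐ[k] R').comp_algebraMap))
  let Y : Over (U : Scheme.{u}) := Over.mk q
  let eY : (Over.map g).obj Y ≅ pt k R' := Over.isoMk (Iso.refl _) (by simpa [Y] using hq.symm)
  let adj := Over.mapPullbackAdj g
  let Ψ : (pt k R' ⟶ T) → (Y ⟶ Red.bc g T) := fun a => adj.homEquiv Y T (eY.hom ≫ a)
  have hΨ : Function.Injective Ψ := fun a b h => (cancel_epi eY.hom).1 ((adj.homEquiv Y T).injective h)
  have hmul : ∀ a b, Ψ (a * b) = Ψ a * Ψ b := fun a b => by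
    simp only [Ψ, Adjunction.homEquiv_unit, MonObj.comp_mul, Functor.map_mul]
  let e : Red.bc g T ≅ Red.DS (U : Scheme.{u}) (Fin r → ℤ) := (Grp.forget _).mapIso eU
  haveI : IsMonHom e.hom := inferInstanceAs (IsMonHom eU.hom.hom.hom)
  haveI : IsCommMonObj (Red.DS (U : Scheme.{u}) (Fin r → ℤ)) := inferInstance
  apply eq_of_res iR hinj
  rw [MonObj.comp_mul, MonObj.comp_mul]
  apply hΨ
  rw [hmul, hmul]
  exact mul_comm_of_mono e.hom _ _

section Coord

variable (T : Over (Spec (CommRingCat.of k))) [IsAffine T.left] [Algebra k Γ(T.left, ⊤)]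

/-- The coordinates of a point. -/
def toAlg (hT : Spec.map (CommRingCat.ofHom (algebraMap k Γ(T.left, ⊤))) = T.left.isoSpec.inv ≫ T.hom)
    {R : Type u} [CommRing R] [Algebra k R] (x : pt k R ⟶ T) : Γ(T.left, ⊤) →ₐ[k] R :=
  { (Spec.preimage (x.left ≫ T.left.isoSpec.hom)).hom with
    commutes' := fun c => by
      have e : CommRingCat.ofHom (algebraMap k Γ(T.left, ⊤)) ≫ Spec.preimage (x.left ≫ T.left.isoSpec.hom) =
          CommRingCat.ofHom (algebraMap k R) := Spec.map_injective (by
        rw [Spec.map_comp, Spec.map_preimage, hT, Category.assoc, Iso.hom_inv_id_assoc]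
        exact Over.w x)
      exact congrArg (fun t : CommRingCat.of k ⟶ CommRingCat.of R => t.hom c) e }

/-- The point with given coordinates. -/
def ofAlg (hT : Spec.map (CommRingCat.ofHom (algebraMap k Γ(T.left, ⊤))) = T.left.isoSpec.inv ≫ T.hom)
    {R : Type u} [CommRing R] [Algebra k R] (φ : Γ(T.left, ⊤) →ₐ[k] R) : pt k R ⟶ T :=
  Over.homMk (Spec.map (CommRingCat.ofHom φ.toRingHom) ≫ T.left.isoSpec.inv) (by
    show (_ ≫ _) ≫ T.hom = Spec.map _
    rw [Category.assoc, ← hT, ← Spec.map_comp]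
    exact congrArg Spec.map (congrArg CommRingCat.ofHom φ.comp_algebraMap))

variable (hT : Spec.map (CommRingCat.ofHom (algebraMap k Γ(T.left, ⊤))) = T.left.isoSpec.inv ≫ T.hom)
  {R : Type u} [CommRing R] [Algebra k R]

theorem spec_toAlg (x : pt k R ⟶ T) :
    Spec.map (CommRingCat.ofHom (toAlg T hT x).toRingHom) = x.left ≫ T.left.isoSpec.hom :=
  Spec.map_preimage _

theorem toAlg_ofAlg (φ : Γ(T.left, ⊤) →ₐ[k] R) : toAlg T hT (ofAlg T hT φ) = φ := by
  have e : CommRingCat.ofHom (toAlg T hT (ofAlg T hT φ)).toRingHom = CommRingCat.ofHom φ.toRingHom := Spec.map_injective (by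
    rw [spec_toAlg]; show (_ ≫ _) ≫ _ = _; rw [Category.assoc, Iso.inv_hom_id, Category.comp_id])
  exact AlgHom.ext fun z => congrArg (fun t : Γ(T.left, ⊤) ⟶ CommRingCat.of R => t.hom z) e

theorem ofAlg_toAlg (x : pt k R ⟶ T) : ofAlg T hT (toAlg T hT x) = x :=
  Over.OverMorphism.ext (by
    show Spec.map _ ≫ _ = _
    rw [spec_toAlg, Category.assoc, Iso.hom_inv_id, Category.comp_id])

theorem toAlg_res {R' : Type u} [CommRing R'] [Algebra k R'] (φ : R →ₐ[k] R') (x : pt k R ⟶ T) :
    toAlg T hT (res φ ≫ x) = φ.comp (toAlg T hT x) := by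
  rw [← toAlg_ofAlg T hT (φ.comp (toAlg T hT x))]
  congr 1
  refine Over.OverMorphism.ext ?_
  show Spec.map _ ≫ x.left = Spec.map (CommRingCat.ofHom (φ.comp (toAlg T hT x)).toRingHom) ≫ _
  rw [show (φ.comp (toAlg T hT x)).toRingHom = φ.toRingHom.comp (toAlg T hT x).toRingHom from rfl,
    CommRingCat.ofHom_comp, Spec.map_comp, spec_toAlg]
  simp [Category.assoc]

end Coord

end Groth.L24.Retract
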